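import Mathlib
import Cfsg.Agent.Lib.Coprime.Action
import Cfsg.Agent.Lib.Fitting.Basic

/-!
Hall's theorems for finite solvable groups: existence, conjugacy and dominance.
-/

set_option autoImplicit false
set_option linter.style.haveILetI false

open Pointwise
open CfsgLib.Coprime

namespace CfsgLib.Hall

variable {G : Type*} [Group G]

theorem exists_normal_pgroup_ne_bot [Finite G] [Nontrivial G] [hs : Group.IsSolvable G] :
    ∃ p : ℕ, p.Prime ∧ ∃ N : Subgroup G, N.Normal ∧ N ≠ ⊥ ∧ IsPGroup p N ∧ IsMulCommutative N := by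
  classical
  have hex : ∃ j, derivedSeries G j = ⊥ := hs.solvable
  set j := Nat.find hex with hj
  have hj0 : j ≠ 0 := by
    intro h
    have h1 := Nat.find_spec hex
    rw [← hj, h, derivedSeries_zero] at h1
    exact top_ne_bot h1
  obtain ⟨i, hi⟩ := Nat.exists_eq_succ_of_ne_zero hj0
  set D := derivedSeries G i with hD
  haveI : D.Normal := derivedSeries_normal G i
  have hDne : D ≠ ⊥ := Nat.find_min hex (by omega)
  have hDc : IsMulCommutative D := by
    have h1 := Nat.find_spec hex
    rw [← hj, hi, derivedSeries_succ] at h1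
    exact Subgroup.commutator_self_eq_bot_iff.mp h1
  haveI : Nontrivial D := (Subgroup.nontrivial_iff_ne_bot D).mpr hDne
  obtain ⟨p, hp, hpd⟩ := Nat.exists_prime_and_dvd (Finite.one_lt_card (α := D)).ne'
  haveI := Fact.mk hp
  let P : Sylow p D := default
  haveI : (P : Subgroup D).Characteristic := Sylow.characteristic_of_normal P
    ⟨fun x hx g => by rwa [mul_comm' g x, mul_inv_cancel_right]⟩
  refine ⟨p, hp, (P : Subgroup D).map D.subtype, ConjAct.normal_of_characteristic_of_normal, ?_,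
    P.2.map _, ?_⟩
  · intro h
    rw [Subgroup.map_eq_bot_iff_of_injective _ D.subtype_injective] at h
    have h1 := P.not_dvd_index
    rw [h, Subgroup.index_bot] at h1
    exact h1 hpd
  · refine ⟨⟨?_⟩⟩
    rintro ⟨_, a, -, rfl⟩ ⟨_, b, -, rfl⟩
    exact Subtype.ext (congrArg Subtype.val (mul_comm' a b) :)

/-- If `H` is a complement in `N ⊔ H` of a solvable `N` of coprime order, every subgroup of
`N ⊔ H` of order prime to `|N|` lies in a conjugate of `H`. -/
theorem exists_conj_le_of_complement [Finite G] {N H K : Subgroup G} [N.Normal]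
    (hN : Group.IsSolvable N) (hH : (Nat.card N).Coprime (Nat.card H))
    (hK : (Nat.card N).Coprime (Nat.card K)) (hle : K ≤ N ⊔ H) :
    ∃ x ∈ N, K ≤ MulAut.conj x • H := by
  set K₀ := (N ⊔ K) ⊓ H
  have hsup : N ⊔ K₀ = N ⊔ K := by
    refine le_antisymm (sup_le le_sup_left inf_le_left) (sup_le le_sup_left fun k hk => ?_)
    obtain ⟨n, hn, h, hh, rfl⟩ := Subgroup.mem_sup_of_normal_left.mp (hle hk)
    refine mul_mem (Subgroup.mem_sup_left hn) (Subgroup.mem_sup_right (Subgroup.mem_inf.mpr ⟨?_, hh⟩))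
    simpa using mul_mem (inv_mem (Subgroup.mem_sup_left (T := K) hn))
      (Subgroup.mem_sup_right (S := N) hk)
  obtain ⟨x, hx, hxe⟩ := exists_conj_of_coprime Subgroup.le_normalizer_of_normal
    (hH.coprime_dvd_right (Subgroup.card_dvd_of_le inf_le_right)) hK hsup (Or.inl hN)
  exact ⟨x, hx, hxe ▸ Subgroup.map_mono inf_le_right⟩

universe u

theorem hall_aux (k : ℕ) : ∀ {G : Type u} [Group G] [Finite G] [Group.IsSolvable G] (m n : ℕ),
    Nat.card G = k → Nat.card G = m * n → m.Coprime n →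
    (∃ H : Subgroup G, Nat.card H = m) ∧
    ∀ H K : Subgroup G, Nat.card H = m → (Nat.card K).Coprime n →
      ∃ g : G, K ≤ MulAut.conj g • H := by
  induction k using Nat.strong_induction_on with
  | _ k IH =>
  intro G _ _ _ m n hk hG hmn
  subst hk
  rcases subsingleton_or_nontrivial G with hsub | hnt
  · have h1 : m * n = 1 := hG ▸ Nat.card_of_subsingleton 1
    exact ⟨⟨⊥, by rw [Subgroup.card_bot, Nat.eq_one_of_mul_eq_one_right h1]⟩,
      fun H K _ _ => ⟨1, fun x _ => Subsingleton.elim 1 x ▸ one_mem _⟩⟩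
  obtain ⟨p, hp, N, hNn, hNne, hNp, hNc⟩ := exists_normal_pgroup_ne_bot (G := G)
  haveI := hNn
  haveI := Fact.mk hp
  set f := QuotientGroup.mk' N
  have hsurj : Function.Surjective f := QuotientGroup.mk'_surjective N
  obtain ⟨e, he⟩ := IsPGroup.iff_card.mp hNp
  have hcardG : Nat.card G = Nat.card (G ⧸ N) * Nat.card N :=
    Subgroup.card_eq_card_quotient_mul_card_subgroup N
  have hlt : Nat.card (G ⧸ N) < Nat.card G := by
    rw [hcardG]
    exact lt_mul_of_one_lt_right Nat.card_pos (N.one_lt_card_iff_ne_bot.mpr hNne)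
  haveI : Group.IsSolvable (G ⧸ N) := Group.isSolvable_of_surjective hsurj
  have hcomap : ∀ M : Subgroup (G ⧸ N), Nat.card (M.comap f) = Nat.card N * Nat.card M := by
    intro M
    refine Nat.eq_of_mul_eq_mul_right (Nat.pos_of_ne_zero M.index_ne_zero_of_finite) ?_
    rw [mul_assoc, Subgroup.card_mul_index, mul_comm (Nat.card N), ← hcardG,
      ← Subgroup.index_comap_of_surjective _ hsurj, Subgroup.card_mul_index]
  by_cases hpm : Nat.card N ∣ m
  · obtain ⟨m', rfl⟩ := hpm
    have hG' : Nat.card (G ⧸ N) = m' * n := by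
      refine Nat.eq_of_mul_eq_mul_left (Nat.card_pos (α := N)) ?_
      rw [← mul_assoc, ← hG, mul_comm, ← hcardG]
    obtain ⟨⟨Hb, hHb⟩, hD⟩ := IH _ hlt (G := G ⧸ N) m' n rfl hG'
      (hmn.coprime_dvd_left (dvd_mul_left _ _))
    refine ⟨⟨Hb.comap f, by rw [hcomap, hHb]⟩, fun H K hH hK => ?_⟩
    have hNH : N ≤ H := by
      have h1 := card_sup_mul_card_inf (K := N) (S := H) Subgroup.le_normalizer_of_normal
      have h2 : Nat.card ↥(N ⊔ H) ∣ Nat.card N * Nat.card H := ⟨_, h1.symm⟩
      have h3 : (Nat.card ↥(N ⊔ H)).Coprime n := Nat.Coprime.coprime_dvd_left h2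
        (Nat.Coprime.mul_left (hmn.coprime_dvd_left (dvd_mul_right _ _)) (hH ▸ hmn))
      have h4 : Nat.card ↥(N ⊔ H) ∣ Nat.card N * m' :=
        h3.dvd_of_dvd_mul_right (hG ▸ Subgroup.card_subgroup_dvd_card _)
      exact sup_eq_right.mp (Subgroup.eq_of_le_of_card_ge le_sup_right
        (hH ▸ Nat.le_of_dvd (hH ▸ Nat.card_pos) h4)).symm
    have hHc : (H.map f).comap f = H := by
      rw [Subgroup.comap_map_eq, QuotientGroup.ker_mk', sup_eq_left.mpr hNH]
    have hHm : Nat.card (H.map f) = m' := by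
      refine Nat.eq_of_mul_eq_mul_left (Nat.card_pos (α := N)) ?_
      rw [← hcomap, hHc, hH]
    obtain ⟨y, hy⟩ := hD (H.map f) (K.map f) hHm (hK.coprime_dvd_left (K.card_map_dvd f))
    obtain ⟨g, rfl⟩ := hsurj y
    refine ⟨g, fun x hx => ?_⟩
    have h1 := hy (Subgroup.mem_map_of_mem f hx)
    rw [mem_conj_smul_iff, ← map_inv, ← map_mul, ← map_mul, ← Subgroup.mem_comap, hHc] at h1
    rwa [mem_conj_smul_iff]
  · have hNn' : Nat.card N ∣ n := by
      have hdvd : Nat.card N ∣ m * n := hG ▸ Subgroup.card_subgroup_dvd_card N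
      rw [he] at hdvd hpm ⊢
      by_cases hpm' : p ∣ m
      · exfalso
        exact hpm (Nat.Coprime.dvd_of_dvd_mul_right
          (((hmn.coprime_dvd_left hpm').pow_left e)) hdvd)
      · exact Nat.Coprime.dvd_of_dvd_mul_left
          (((Nat.Prime.coprime_iff_not_dvd hp).mpr hpm').pow_left e) hdvd
    obtain ⟨n', rfl⟩ := hNn'
    have hG' : Nat.card (G ⧸ N) = m * n' := by
      refine Nat.eq_of_mul_eq_mul_left (Nat.card_pos (α := N)) ?_
      rw [mul_comm, ← hcardG, hG]
      ring
    obtain ⟨⟨Hb, hHb⟩, hD⟩ := IH _ hlt (G := G ⧸ N) m n' rfl hG'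
      (hmn.coprime_dvd_right (dvd_mul_left _ _))
    have hNm : (Nat.card N).Coprime m := (hmn.coprime_dvd_right (dvd_mul_right _ _)).symm
    refine ⟨?_, fun H K hH hK => ?_⟩
    · have hNX : N ≤ Hb.comap f := fun x hx => by
        rw [Subgroup.mem_comap, QuotientGroup.mk'_apply, (QuotientGroup.eq_one_iff x).mpr hx]
        exact one_mem _
      have hrel : N.relIndex (Hb.comap f) = m := by
        have h1 := relIndex_mul_card_inf N (Hb.comap f)
        rw [inf_eq_left.mpr hNX, hcomap, hHb, mul_comm] at h1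
        exact Nat.eq_of_mul_eq_mul_left Nat.card_pos h1
      obtain ⟨B, -, -, -, hB⟩ := exists_complement_of_coprime (N := N) (S := Hb.comap f)
        Subgroup.le_normalizer_of_normal (by rw [inf_eq_left.mpr hNX, hrel]; exact hNm)
      exact ⟨B, by rw [hB, hrel]⟩
    · have hNK : (Nat.card N).Coprime (Nat.card K) :=
        (hK.coprime_dvd_right (dvd_mul_right _ _)).symm
      have hHm : Nat.card (H.map f) = m := by
        have h1 : (H.map f).comap f = N ⊔ H := by
          rw [Subgroup.comap_map_eq, QuotientGroup.ker_mk', sup_comm]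
        have h2 := card_sup_of_coprime (N := N) (H := H) Subgroup.le_normalizer_of_normal
          (by rw [hH]; exact hNm)
        rw [← h1, hcomap, hH] at h2
        exact Nat.eq_of_mul_eq_mul_left Nat.card_pos h2
      obtain ⟨y, hy⟩ := hD (H.map f) (K.map f) hHm
        ((hK.coprime_dvd_right (dvd_mul_left _ _)).coprime_dvd_left (K.card_map_dvd f))
      obtain ⟨g, rfl⟩ := hsurj y
      have hle : MulAut.conj g⁻¹ • K ≤ N ⊔ H := by
        intro x hx
        rw [mem_conj_smul_iff, inv_inv] at hx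
        have h1 := hy (Subgroup.mem_map_of_mem f hx)
        rw [mem_conj_smul_iff, ← map_inv, ← map_mul, ← map_mul, ← Subgroup.mem_comap,
          Subgroup.comap_map_eq, QuotientGroup.ker_mk', sup_comm] at h1
        simpa [mul_assoc] using h1
      haveI := hNc
      obtain ⟨x, -, hx⟩ := exists_conj_le_of_complement
        (Group.isSolvable_of_comm fun a b : N => mul_comm' a b) (hH.symm ▸ hNm)
        (by rw [card_conj_smul]; exact hNK) hle
      refine ⟨g * x, fun k hk => ?_⟩
      have h3 := hx (conj_mem_conj_smul (g := g⁻¹) hk)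
      rw [mem_conj_smul_iff] at h3 ⊢
      simpa [mul_assoc] using h3

variable [Finite G] [Group.IsSolvable G] {m n : ℕ}

theorem exists_hall (hG : Nat.card G = m * n) (hmn : m.Coprime n) :
    ∃ H : Subgroup G, Nat.card H = m :=
  (hall_aux _ m n rfl hG hmn).1

theorem exists_conj_le (hG : Nat.card G = m * n) (hmn : m.Coprime n) {H K : Subgroup G}
    (hH : Nat.card H = m) (hK : (Nat.card K).Coprime n) : ∃ g : G, K ≤ MulAut.conj g • H :=
  (hall_aux _ m n rfl hG hmn).2 H K hH hK

theorem exists_conj_eq (hG : Nat.card G = m * n) (hmn : m.Coprime n) {H K : Subgroup G}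
    (hH : Nat.card H = m) (hK : Nat.card K = m) : ∃ g : G, MulAut.conj g • H = K := by
  obtain ⟨g, hg⟩ := exists_conj_le hG hmn hH (hK ▸ hmn)
  exact ⟨g, (Subgroup.eq_of_le_of_card_ge hg (by rw [card_conj_smul, hH, hK])).symm⟩

theorem exists_hall_ge (hG : Nat.card G = m * n) (hmn : m.Coprime n) {K : Subgroup G}
    (hK : (Nat.card K).Coprime n) : ∃ H : Subgroup G, Nat.card H = m ∧ K ≤ H := by
  obtain ⟨H, hH⟩ := exists_hall hG hmn
  obtain ⟨g, hg⟩ := exists_conj_le hG hmn hH hK
  exact ⟨MulAut.conj g • H, by rw [card_conj_smul, hH], hg⟩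

end CfsgLib.Hall
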