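import Mathlib
import Cfsg.Prelude.Def_SolvableStructure
import Cfsg.Agent.Lib.Hall.Basic

/-!
Complement systems, Sylow systems and system normalisers of finite solvable groups.
-/

set_option autoImplicit false
set_option linter.style.haveILetI false

open Pointwise
open CfsgLib.Coprime Cfsg

namespace CfsgLib.Hall

variable {G : Type*} [Group G]

theorem index_inf_of_coprime [Finite G] {H K : Subgroup G} (h : H.index.Coprime K.index) :
    (H ⊓ K).index = H.index * K.index :=
  le_antisymm Subgroup.index_inf_le (Nat.le_of_dvd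
    (Nat.pos_of_ne_zero Subgroup.index_ne_zero_of_finite)
    (h.mul_dvd_of_dvd_of_dvd (Subgroup.index_dvd_of_le inf_le_left)
      (Subgroup.index_dvd_of_le inf_le_right)))

theorem exists_eq_mul_of_relIndex_eq [Finite G] {H K : Subgroup G}
    (h : K.relIndex H = K.index) (g : G) : ∃ x ∈ H, ∃ y ∈ K, g = x * y := by
  let f : H ⧸ K.subgroupOf H → G ⧸ K :=
    Quotient.map' (fun x : H => (x : G)) (by
      intro a b hab
      rw [QuotientGroup.leftRel_apply] at hab ⊢
      exact hab)
  have hinj : Function.Injective f := by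
    intro a b
    refine Quotient.inductionOn₂' a b fun x y hxy => ?_
    exact QuotientGroup.eq.mpr (Subgroup.mem_subgroupOf.mpr
      (by simpa using QuotientGroup.eq.mp hxy))
  have hcard : Nat.card (H ⧸ K.subgroupOf H) = Nat.card (G ⧸ K) := h
  obtain ⟨a, ha⟩ := ((Nat.bijective_iff_injective_and_card f).mpr ⟨hinj, hcard⟩).2
    (QuotientGroup.mk g)
  induction a using QuotientGroup.induction_on with
  | _ x => exact ⟨x, x.2, _, QuotientGroup.eq.mp ha, (mul_inv_cancel_left _ _).symm⟩

theorem exists_eq_mul_of_coprime_index [Finite G] {H K : Subgroup G}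
    (h : H.index.Coprime K.index) (g : G) : ∃ x ∈ H, ∃ y ∈ K, g = x * y := by
  refine exists_eq_mul_of_relIndex_eq (Nat.eq_of_mul_eq_mul_right
    (Nat.pos_of_ne_zero H.index_ne_zero_of_finite) ?_) g
  rw [← Subgroup.inf_relIndex_right, Subgroup.relIndex_mul_index inf_le_right,
    index_inf_of_coprime h.symm]

theorem index_finset_inf [Finite G] {ι : Type*} [DecidableEq ι] (K : ι → Subgroup G) (s : Finset ι)
    (h : ∀ i ∈ s, ∀ j ∈ s, i ≠ j → (K i).index.Coprime (K j).index) :
    (s.inf K).index = ∏ i ∈ s, (K i).index := by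
  induction s using Finset.induction_on with
  | empty => simp
  | @insert a s ha ih =>
    have hs := ih fun i hi j hj => h i (Finset.mem_insert_of_mem hi) j (Finset.mem_insert_of_mem hj)
    rw [Finset.inf_insert, Finset.prod_insert ha, index_inf_of_coprime, hs]
    rw [hs]
    exact Nat.Coprime.prod_right fun j hj =>
      h a (Finset.mem_insert_self _ _) j (Finset.mem_insert_of_mem hj) (fun e => ha (e ▸ hj))

/-- The primes dividing the order of `G`. -/
noncomputable def primesOf (G : Type*) [Group G] : Finset Nat.Primes :=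
  (Nat.card G).primeFactors.subtype Nat.Prime

theorem mem_primesOf [Finite G] {p : Nat.Primes} : p ∈ primesOf G ↔ (p : ℕ) ∣ Nat.card G := by
  refine Finset.mem_subtype.trans ?_
  simp [Nat.mem_primeFactors, p.2, Nat.card_pos.ne']

theorem prod_primesOf [Finite G] :
    ∏ p ∈ primesOf G, (p : ℕ) ^ (Nat.card G).factorization p = Nat.card G := by
  refine (Finset.prod_subtype_eq_prod_filter (fun p => p ^ (Nat.card G).factorization p)).trans ?_
  rw [Finset.filter_true_of_mem fun p hp => Nat.prime_of_mem_primeFactors hp]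
  exact Nat.prod_factorization_pow_eq_self Nat.card_pos.ne'

theorem exists_complementSystem [Finite G] [Group.IsSolvable G] :
    ∃ K : Nat.Primes → Subgroup G, IsComplementSystem K := by
  have : ∀ p : Nat.Primes, ∃ H : Subgroup G,
      H.index = (p : ℕ) ^ (Nat.card G).factorization p := by
    intro p
    obtain ⟨H, hH⟩ := exists_hall (G := G)
      ((Nat.ordProj_mul_ordCompl_eq_self (Nat.card G) p).symm.trans (Nat.mul_comm _ _))
      ((Nat.coprime_ordCompl p.2 Nat.card_pos.ne').pow_left _).symm
    refine ⟨H, Nat.eq_of_mul_eq_mul_left (Nat.card_pos (α := H)) ?_⟩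
    rw [Subgroup.card_mul_index, hH, mul_comm, Nat.ordProj_mul_ordCompl_eq_self]
  choose K hK using this
  exact ⟨K, hK⟩

section

variable [Finite G] {K L : Nat.Primes → Subgroup G}

theorem coprime_index_of_ne (hK : IsComplementSystem K) {p q : Nat.Primes} (h : p ≠ q) :
    (K p).index.Coprime (K q).index := by
  rw [hK p, hK q]
  exact Nat.coprime_pow_primes _ _ p.2 q.2 (fun e => h (Subtype.ext e))

theorem eq_top_of_not_dvd (hK : IsComplementSystem K) {p : Nat.Primes}
    (h : ¬ (p : ℕ) ∣ Nat.card G) : K p = ⊤ := by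
  rw [← Subgroup.index_eq_one, hK p, Nat.factorization_eq_zero_of_not_dvd h, pow_zero]

theorem card_coprime (hK : IsComplementSystem K) (p : Nat.Primes) :
    (Nat.card (K p)).Coprime p := by
  have h := (K p).card_mul_index
  rw [hK p] at h
  have h1 : Nat.card (K p) = Nat.card G / (p : ℕ) ^ (Nat.card G).factorization p :=
    Nat.eq_div_of_mul_eq_left (pow_ne_zero _ p.2.ne_zero) h
  rw [h1]
  exact (Nat.coprime_ordCompl p.2 Nat.card_pos.ne').symm

theorem index_inf_sdiff (hK : IsComplementSystem K) (s : Finset Nat.Primes) :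
    Nat.card ↥((primesOf G \ s).inf K) =
      ∏ p ∈ primesOf G ∩ s, (p : ℕ) ^ (Nat.card G).factorization p := by
  classical
  have h := ((primesOf G \ s).inf K).card_mul_index
  rw [index_finset_inf K _ fun i _ j _ => coprime_index_of_ne hK,
    Finset.prod_congr rfl fun i _ => hK i] at h
  have h2 := prod_primesOf (G := G)
  rw [← Finset.prod_inter_mul_prod_sdiff (primesOf G) s] at h2
  exact Nat.eq_of_mul_eq_mul_right
    (Finset.prod_pos fun i _ => pow_pos i.2.pos _) (h.trans h2.symm)

/-- The Sylow subgroup attached to a complement system. -/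
noncomputable def sylowPart (K : Nat.Primes → Subgroup G) (p : Nat.Primes) : Subgroup G :=
  (primesOf G \ {p}).inf K

theorem card_sylowPart (hK : IsComplementSystem K) (p : Nat.Primes) :
    Nat.card (sylowPart K p) = (p : ℕ) ^ (Nat.card G).factorization p := by
  classical
  rw [sylowPart, index_inf_sdiff hK]
  by_cases hp : (p : ℕ) ∣ Nat.card G
  · rw [Finset.inter_singleton_of_mem (mem_primesOf.mpr hp), Finset.prod_singleton]
  · rw [Finset.inter_singleton_of_notMem (fun h => hp (mem_primesOf.mp h)), Finset.prod_empty,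
      Nat.factorization_eq_zero_of_not_dvd hp, pow_zero]

/-- An element of order a power of `p` which lies in no more than the required complements lies in
the Sylow subgroup. -/
theorem mem_sylowPart {p : Nat.Primes} {x : G} (h : ∀ q ≠ p, x ∈ K q) : x ∈ sylowPart K p := by
  classical
  have : Subgroup.zpowers x ≤ sylowPart K p := Finset.le_inf fun q hq =>
    Subgroup.zpowers_le.mpr (h q (by simpa using (Finset.mem_sdiff.mp hq).2))
  exact this (Subgroup.mem_zpowers x)

/-- Any normal subgroup of order prime to `p` lies in the `p`-complement. -/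
theorem le_of_coprime_card (hK : IsComplementSystem K) {p : Nat.Primes} {N : Subgroup G} [N.Normal]
    (h : (Nat.card N).Coprime p) : N ≤ K p := by
  rw [← Subgroup.relIndex_eq_one]
  refine Nat.eq_one_of_dvd_coprimes (h.pow_right ((Nat.card G).factorization p))
    (Subgroup.relIndex_dvd_card _ _) ?_
  rw [← hK p]
  exact CfsgLib.Fitting.relIndex_dvd_index_of_normal_right _ _

end

/-- Complement systems which agree modulo a normal subgroup are conjugate under it. -/
theorem exists_conj_of_sup_eq [Finite G] [Group.IsSolvable G] {K L : Nat.Primes → Subgroup G}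
    (hK : IsComplementSystem K) (hL : IsComplementSystem L) (N : Subgroup G) [N.Normal]
    (h : ∀ p, N ⊔ K p = N ⊔ L p) : ∃ n ∈ N, ∀ p, MulAut.conj n • K p = L p := by
  classical
  suffices hs : ∀ s : Finset Nat.Primes, ∃ n ∈ N, ∀ p ∈ s, MulAut.conj n • K p = L p by
    obtain ⟨n, hn, hnp⟩ := hs (primesOf G)
    refine ⟨n, hn, fun p => ?_⟩
    by_cases hp : (p : ℕ) ∣ Nat.card G
    · exact hnp p (mem_primesOf.mpr hp)
    · rw [eq_top_of_not_dvd hK hp, eq_top_of_not_dvd hL hp]
      exact top_unique fun x _ => mem_conj_smul_iff.mpr trivial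
  intro s
  induction s using Finset.induction_on with
  | empty => exact ⟨1, one_mem _, by simp⟩
  | @insert a s ha ih =>
    obtain ⟨n, hn, hns⟩ := ih
    have hcard : ∀ M M' : Nat.Primes → Subgroup G, IsComplementSystem M → IsComplementSystem M' →
        Nat.card (M a) = Nat.card (M' a) := by
      intro M M' hM hM'
      refine Nat.eq_of_mul_eq_mul_right (Nat.pos_of_ne_zero (M a).index_ne_zero_of_finite) ?_
      rw [(M a).card_mul_index, hM a, ← hM' a, (M' a).card_mul_index]
    set X := N ⊔ L a
    have hK'X : MulAut.conj n • K a ≤ X := by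
      intro x hx
      have h1 : n⁻¹ * x * n ∈ X :=
        (h a ▸ le_sup_right : K a ≤ N ⊔ L a) (mem_conj_smul_iff.mp hx)
      have h2 : n ∈ X := Subgroup.mem_sup_left hn
      simpa [mul_assoc] using mul_mem (mul_mem h2 h1) (inv_mem h2)
    have e : ∀ M : Subgroup G, M ≤ X → Nat.card (M.subgroupOf X) = Nat.card M := fun M hM =>
      Nat.card_congr (Subgroup.subgroupOfEquivOfLe hM).toEquiv
    have hLX : L a ≤ X := le_sup_right
    have hmul : Nat.card X = Nat.card (L a) * (L a).relIndex X := by
      rw [← e _ hLX]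
      exact (Subgroup.card_mul_index ((L a).subgroupOf X)).symm
    have hcop : (Nat.card (L a)).Coprime ((L a).relIndex X) := by
      refine Nat.Coprime.coprime_dvd_right (Subgroup.relIndex_dvd_index_of_le hLX) ?_
      rw [hL a]
      exact (card_coprime hL a).pow_right _
    obtain ⟨⟨x, hxX⟩, hx⟩ := exists_conj_eq (G := X) hmul hcop
      (H := (MulAut.conj n • K a).subgroupOf X) (K := (L a).subgroupOf X)
      (by rw [e _ hK'X, card_conj_smul, hcard K L hK hL]) (e _ hLX)
    have hx' : MulAut.conj x • (MulAut.conj n • K a) = L a := by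
      refine Subgroup.eq_of_le_of_card_ge ?_ (by rw [card_conj_smul, card_conj_smul, hcard K L hK hL])
      intro y hy
      have hy1 := mem_conj_smul_iff.mp hy
      have h1 := conj_mem_conj_smul (g := (⟨x, hxX⟩ : X))
        (H := (MulAut.conj n • K a).subgroupOf X) (x := ⟨x⁻¹ * y * x, hK'X hy1⟩)
        (Subgroup.mem_subgroupOf.mpr hy1)
      rw [hx, Subgroup.mem_subgroupOf] at h1
      simpa [mul_assoc] using h1
    obtain ⟨l, hl, t, ht, rfl⟩ := Subgroup.mem_sup_of_normal_right.mp
      (by rwa [sup_comm] : x ∈ L a ⊔ N)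
    have ht' : MulAut.conj t • (MulAut.conj n • K a) = L a := by
      have h1 : MulAut.conj l • L a = L a := conj_smul_eq_of_mem hl
      rw [map_mul, mul_smul] at hx'
      exact smul_left_cancel _ (hx'.trans h1.symm)
    set D := s.inf L
    have hD : D.index.Coprime (MulAut.conj n • K a).index := by
      rw [index_finset_inf L s fun i _ j _ => coprime_index_of_ne hL]
      have h1 : (MulAut.conj n • K a).index = (L a).index := by
        refine Nat.eq_of_mul_eq_mul_left (Nat.card_pos (α := L a)) ?_
        rw [(L a).card_mul_index, ← ht']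
        rw [card_conj_smul t, Subgroup.card_mul_index]
      rw [h1]
      exact Nat.Coprime.prod_left fun j hj => coprime_index_of_ne hL fun e => ha (e ▸ hj)
    obtain ⟨⟨d, hdN⟩, hd, ⟨k, hkN⟩, hk, htdk⟩ :=
      exists_eq_mul_of_coprime_index (G := N) (H := D.subgroupOf N)
        (K := (MulAut.conj n • K a).subgroupOf N)
        (coprime_of_dvd hD (CfsgLib.Fitting.relIndex_dvd_index_of_normal_right _ _)
          (CfsgLib.Fitting.relIndex_dvd_index_of_normal_right _ _)) ⟨t, ht⟩
    have htdk' : t = d * k := congrArg Subtype.val htdk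
    refine ⟨d * n, mul_mem hdN hn, fun p hp => ?_⟩
    rw [map_mul, mul_smul]
    rcases Finset.mem_insert.mp hp with rfl | hp
    · have h1 : MulAut.conj k • (MulAut.conj n • K p) = MulAut.conj n • K p :=
        conj_smul_eq_of_mem (Subgroup.mem_subgroupOf.mp hk)
      rw [← ht', htdk', map_mul, mul_smul, h1]
    · rw [hns p hp]
      exact conj_smul_eq_of_mem (Finset.inf_le (f := L) hp (Subgroup.mem_subgroupOf.mp hd))

section

variable [Finite G] {K : Nat.Primes → Subgroup G}

/-- Intersections of complements from one system permute. -/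
theorem exists_mul_eq_finset_inf (hK : IsComplementSystem K) (s t : Finset Nat.Primes) {g : G}
    (hg : g ∈ (primesOf G \ (s ∪ t)).inf K) :
    ∃ x ∈ (primesOf G \ s).inf K, ∃ y ∈ (primesOf G \ t).inf K, g = x * y := by
  classical
  set T := (primesOf G \ (s ∪ t)).inf K
  set A := (primesOf G \ s).inf K
  set B := (primesOf G \ t).inf K
  have hA : A ≤ T := Finset.inf_mono (Finset.sdiff_subset_sdiff le_rfl Finset.subset_union_left)
  have hB : B ≤ T := Finset.inf_mono (Finset.sdiff_subset_sdiff le_rfl Finset.subset_union_right)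
  have hAB : A ⊓ B = (primesOf G \ (s ∩ t)).inf K := by
    rw [← Finset.inf_union]
    congr 1
    ext i
    simp only [Finset.mem_union, Finset.mem_sdiff, Finset.mem_inter]
    tauto
  have hindex : ∀ u, ((primesOf G \ u).inf K).index =
      ∏ p ∈ primesOf G \ u, (p : ℕ) ^ (Nat.card G).factorization p := fun u => by
    rw [index_finset_inf K _ fun i _ j _ => coprime_index_of_ne hK,
      Finset.prod_congr rfl fun i _ => hK i]
  have hkey : (A ⊓ B).index * T.index = A.index * B.index := by
    rw [hAB, hindex, hindex, hindex, hindex, ← Finset.prod_union_inter (s₁ := primesOf G \ s)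
      (s₂ := primesOf G \ t)]
    congr 2 <;> ext i <;> simp only [Finset.mem_union, Finset.mem_sdiff, Finset.mem_inter] <;> tauto
  have hrel : (B.subgroupOf T).relIndex (A.subgroupOf T) = (B.subgroupOf T).index := by
    rw [Subgroup.relIndex_subgroupOf hA, ← Subgroup.relIndex]
    refine Nat.eq_of_mul_eq_mul_right (Nat.pos_of_ne_zero A.index_ne_zero_of_finite) ?_
    rw [← Subgroup.inf_relIndex_right, Subgroup.relIndex_mul_index inf_le_right]
    refine Nat.eq_of_mul_eq_mul_right (Nat.pos_of_ne_zero T.index_ne_zero_of_finite) ?_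
    rw [inf_comm, hkey, mul_right_comm, Subgroup.relIndex_mul_index hB, mul_comm]
  obtain ⟨x, hx, y, hy, hxy⟩ := exists_eq_mul_of_relIndex_eq hrel ⟨g, hg⟩
  exact ⟨x, Subgroup.mem_subgroupOf.mp hx, y, Subgroup.mem_subgroupOf.mp hy,
    congrArg Subtype.val hxy⟩

theorem sylowPart_mul_comm (hK : IsComplementSystem K) (p q : Nat.Primes) :
    (sylowPart K p : Set G) * (sylowPart K q : Set G) =
      (sylowPart K q : Set G) * (sylowPart K p : Set G) := by
  classical
  have h : ∀ p q : Nat.Primes, (sylowPart K p : Set G) * (sylowPart K q : Set G) =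
      ((primesOf G \ ({p} ∪ {q})).inf K : Subgroup G) := by
    intro p q
    refine Set.Subset.antisymm ?_ fun g hg => ?_
    · rintro _ ⟨x, hx, y, hy, rfl⟩
      exact mul_mem
        (SetLike.le_def.mp (Finset.inf_mono (f := K)
          (Finset.sdiff_subset_sdiff le_rfl Finset.subset_union_left)) hx)
        (SetLike.le_def.mp (Finset.inf_mono (f := K)
          (Finset.sdiff_subset_sdiff le_rfl Finset.subset_union_right)) hy)
    · obtain ⟨x, hx, y, hy, rfl⟩ := exists_mul_eq_finset_inf hK {p} {q} hg
      exact ⟨x, hx, y, hy, rfl⟩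
  rw [h p q, h q p, Finset.union_comm]

theorem systemNormalizer_le (p : Nat.Primes) :
    systemNormalizer K ≤ Subgroup.normalizer (K p : Set G) :=
  iInf_le _ p

theorem mem_systemNormalizer {x : G} :
    x ∈ systemNormalizer K ↔ ∀ p, MulAut.conj x • K p = K p := by
  simp [systemNormalizer, Subgroup.mem_iInf, mem_normalizer_iff_conj_smul]

theorem relIndex_systemNormalizer_dvd (p : Nat.Primes) :
    (K p).relIndex (systemNormalizer K) ∣ (K p).index := by
  have hD := systemNormalizer_le (K := K) p
  set M := Subgroup.normalizer (K p : Set G)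
  haveI : ((K p).subgroupOf M).Normal := Subgroup.normal_in_normalizer
  rw [← Subgroup.relIndex_subgroupOf hD]
  refine (Subgroup.relIndex_dvd_index_of_normal _ _).trans ?_
  exact Subgroup.relIndex_dvd_index_of_le Subgroup.le_normalizer

theorem mem_sylowPart_of_mem_systemNormalizer (hK : IsComplementSystem K) {p : Nat.Primes} {x : G}
    (hx : x ∈ systemNormalizer K) (hxp : ∃ k, orderOf x ∣ (p : ℕ) ^ k) : x ∈ sylowPart K p := by
  obtain ⟨k, hk⟩ := hxp
  refine mem_sylowPart fun q hqp => ?_
  set D := systemNormalizer K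
  haveI : ((K q).subgroupOf D).Normal :=
    Subgroup.normal_subgroupOf_of_le_normalizer (systemNormalizer_le q)
  have h2 : x ^ (K q).relIndex D ∈ K q :=
    Subgroup.mem_subgroupOf.mp (((K q).subgroupOf D).pow_index_mem ⟨x, hx⟩)
  have hc : ((K q).relIndex D).Coprime (orderOf x) := by
    refine coprime_of_dvd ?_ (relIndex_systemNormalizer_dvd q) hk
    rw [hK q]
    exact Nat.coprime_pow_primes _ _ q.2 p.2 fun e => hqp (Subtype.ext e)
  obtain ⟨m, hm⟩ := exists_pow_eq_self_of_coprime hc
  exact hm ▸ pow_mem h2 m

theorem isNilpotent_systemNormalizer (hK : IsComplementSystem K) :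
    Group.IsNilpotent (systemNormalizer K) := by
  classical
  apply ((Group.isNilpotent_of_finite_tfae (G := systemNormalizer K)).out 0 3).mpr
  intro p hp P
  let D := systemNormalizer K
  set q : Nat.Primes := ⟨p, hp.out⟩
  have hS : IsPGroup p ((sylowPart K q).subgroupOf D) :=
    (IsPGroup.of_card (card_sylowPart hK q)).comap_of_injective _ D.subtype_injective
  have hle : (P : Subgroup D) ≤ (sylowPart K q).subgroupOf D := by
    intro y hy
    obtain ⟨k, hk⟩ := P.2 ⟨y, hy⟩
    refine Subgroup.mem_subgroupOf.mpr (mem_sylowPart_of_mem_systemNormalizer hK y.2 ⟨k, ?_⟩)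
    rw [Subgroup.orderOf_coe]
    exact orderOf_dvd_of_pow_eq_one (congrArg Subtype.val hk)
  have hPe := P.3 hS hle
  suffices h : ((sylowPart K q).subgroupOf D).Normal by exact (congrArg Subgroup.Normal hPe).mp h
  refine ⟨fun y hy d => ?_⟩
  rw [Subgroup.mem_subgroupOf] at hy ⊢
  refine mem_sylowPart fun r hr => ?_
  have h1 : (y : G) ∈ K r :=
    Finset.inf_le (f := K) (s := insert r (primesOf G \ {q})) (Finset.mem_insert_self _ _) (by
      by_cases hd : (r : ℕ) ∣ Nat.card G
      · rwa [Finset.insert_eq_of_mem
          (Finset.mem_sdiff.mpr ⟨mem_primesOf.mpr hd, by simpa using hr⟩)]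
      · rw [Finset.inf_insert, eq_top_of_not_dvd hK hd, top_inf_eq]
        exact hy)
  simpa using (Subgroup.mem_normalizer_iff.mp (systemNormalizer_le r d.2) _).mp h1

theorem systemNormalizer_conj (g : G) :
    systemNormalizer (fun p => MulAut.conj g • K p) = MulAut.conj g • systemNormalizer K := by
  ext x
  rw [mem_systemNormalizer, mem_conj_smul_iff, mem_systemNormalizer]
  refine forall_congr' fun p => ?_
  rw [map_mul, map_mul, mul_smul, mul_smul, map_inv, inv_smul_eq_iff]

theorem isComplementSystem_conj (hK : IsComplementSystem K) (g : G) :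
    IsComplementSystem fun p => MulAut.conj g • K p := by
  intro p
  refine Nat.eq_of_mul_eq_mul_left (Nat.card_pos (α := K p)) ?_
  rw [← hK p, (K p).card_mul_index, ← card_conj_smul g (K p), Subgroup.card_mul_index]

theorem isComplementSystem_map (hK : IsComplementSystem K) (N : Subgroup G) [N.Normal] :
    IsComplementSystem fun p => (K p).map (QuotientGroup.mk' N) := by
  intro p
  have h1 : ((K p).map (QuotientGroup.mk' N)).index = (K p ⊔ N).index := by
    rw [Subgroup.index_map, QuotientGroup.ker_mk',
      MonoidHom.range_eq_top.mpr (QuotientGroup.mk'_surjective N), Subgroup.index_top, mul_one]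
  rw [h1]
  set b := (Nat.card (G ⧸ N)).factorization p
  have hN : N.relIndex (K p) * (K p ⊔ N).index = Nat.card (G ⧸ N) := by
    rw [← Subgroup.relIndex_sup_right (K := N) (H := K p),
      Subgroup.relIndex_mul_index le_sup_right, Subgroup.index_eq_card]
  obtain ⟨j, -, hj⟩ := (Nat.dvd_prime_pow p.2).mp
    (hK p ▸ Subgroup.index_dvd_of_le (le_sup_left : K p ≤ K p ⊔ N))
  have hcop : ¬ (p : ℕ) ∣ N.relIndex (K p) := fun h =>
    ((Nat.Prime.coprime_iff_not_dvd p.2).mp (card_coprime hK p).symm)
      (h.trans (Subgroup.relIndex_dvd_card _ _))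
  have hb : b = j := by
    simp only [b]
    rw [← hN, hj, Nat.factorization_mul (fun h => hcop (by rw [h]; exact dvd_zero _))
      (pow_ne_zero _ p.2.ne_zero), Finsupp.add_apply, Nat.factorization_eq_zero_of_not_dvd hcop,
      p.2.factorization_pow, Finsupp.single_eq_same, zero_add]
  rw [hj, hb]

theorem map_systemNormalizer [Group.IsSolvable G] (hK : IsComplementSystem K)
    (N : Subgroup G) [N.Normal] :
    systemNormalizer (fun p => (K p).map (QuotientGroup.mk' N)) =
      (systemNormalizer K).map (QuotientGroup.mk' N) := by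
  refine le_antisymm ?_ ?_
  · intro y hy
    obtain ⟨g, rfl⟩ := QuotientGroup.mk'_surjective N y
    have h : ∀ p, N ⊔ MulAut.conj g • K p = N ⊔ K p := by
      intro p
      have h1 := mem_systemNormalizer.mp hy p
      simp only [← map_conj_smul] at h1
      have h2 := congrArg (Subgroup.comap (QuotientGroup.mk' N)) h1
      rwa [Subgroup.comap_map_eq, Subgroup.comap_map_eq, QuotientGroup.ker_mk', sup_comm,
        sup_comm _ N] at h2
    obtain ⟨n, hn, hnp⟩ := exists_conj_of_sup_eq (isComplementSystem_conj hK g) hK N h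
    refine ⟨n * g, mem_systemNormalizer.mpr fun p => ?_, ?_⟩
    · rw [map_mul, mul_smul]
      exact hnp p
    · rw [map_mul, QuotientGroup.mk'_apply, (QuotientGroup.eq_one_iff n).mpr hn, one_mul]
  · rintro _ ⟨x, hx, rfl⟩
    exact mem_systemNormalizer.mpr fun p => by
      rw [← map_conj_smul, mem_systemNormalizer.mp hx p]

end

end CfsgLib.Hall
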