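import Mathlib
import Cfsg.Agent.Lib.Hall.System

/-!
Carter subgroups of finite solvable groups and their relation to system normalisers.
-/

set_option autoImplicit false
set_option linter.style.haveILetI false
set_option linter.unusedSectionVars false

open Pointwise
open CfsgLib.Coprime Cfsg

namespace CfsgLib.Hall

variable {G : Type*} [Group G] [Finite G]

theorem mem_of_coprime_orderOf_of_isNilpotent [Group.IsNilpotent G] {p k : ℕ} {K : Subgroup G}
    (hK : K.index ∣ p ^ k) {x : G} (hx : (orderOf x).Coprime p) : x ∈ K := by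
  have h2 := CfsgLib.Fitting.pow_index_mem_of_isNilpotent K x
  obtain ⟨m, hm⟩ := exists_pow_eq_self_of_coprime ((hx.pow_right k).coprime_dvd_right hK).symm
  exact hm ▸ pow_mem h2 m

theorem index_dvd_prime_pow {p : ℕ} [Fact p.Prime] {H : Subgroup G}
    (h : ∀ x : G, (orderOf x).Coprime p → x ∈ H) : H.index ∣ p ^ H.index := by
  have hne : H.index ≠ 0 := Subgroup.index_ne_zero_of_finite
  have hall : ∀ {r : ℕ}, r.Prime → r ∣ H.index → r = p := by
    intro r hr hd
    by_contra hrp
    haveI := Fact.mk hr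
    obtain ⟨P⟩ : Nonempty (Sylow r G) := inferInstance
    refine P.not_dvd_index (hd.trans (Subgroup.index_dvd_of_le fun x hx => h x ?_))
    obtain ⟨j, hj⟩ := P.2 ⟨x, hx⟩
    have hd : orderOf x ∣ r ^ j := orderOf_dvd_of_pow_eq_one (congrArg Subtype.val hj)
    exact (((Nat.coprime_primes hr Fact.out).mpr hrp).pow_left j).coprime_dvd_left hd
  rw [Nat.eq_prime_pow_of_unique_prime_dvd hne hall]
  exact pow_dvd_pow p (Nat.lt_pow_self (Fact.out : p.Prime).one_lt).le

theorem commute_of_coprime_orderOf [Group.IsNilpotent G] {p : ℕ} [Fact p.Prime] {x y : G}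
    {j : ℕ} (hx : orderOf x ∣ p ^ j) (hy : (orderOf y).Coprime p) : x * y = y * x := by
  obtain ⟨P⟩ : Nonempty (Sylow p G) := inferInstance
  obtain ⟨e, he⟩ := IsPGroup.iff_card.mp P.2
  have hcop : (P : Subgroup G).index.Coprime (Nat.card P) := by
    rw [he]
    exact ((Nat.Prime.coprime_iff_not_dvd Fact.out).mpr P.not_dvd_index).symm.pow_right e
  obtain ⟨K, hK⟩ := exists_hall (G := G)
    ((P : Subgroup G).card_mul_index.symm.trans (mul_comm _ _)) hcop
  have hKi : K.index = p ^ e := by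
    refine Nat.eq_of_mul_eq_mul_left (Nat.card_pos (α := K)) ?_
    rw [K.card_mul_index, hK, ← he, mul_comm, Subgroup.card_mul_index]
  have hKc : (Nat.card K).Coprime p :=
    hK ▸ ((Nat.Prime.coprime_iff_not_dvd Fact.out).mpr P.not_dvd_index).symm
  have hcl : ∀ g z : G, (orderOf z).Coprime p → g * z * g⁻¹ ∈ K := fun g z hz =>
    mem_of_coprime_orderOf_of_isNilpotent (dvd_of_eq hKi) (by
      rw [show g * z * g⁻¹ = MulAut.conj g z from rfl, MulEquiv.orderOf_eq]; exact hz)
  have hyK : y ∈ K := by simpa using hcl 1 y hy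
  have h1 : x * y * x⁻¹ * y⁻¹ ∈ (P : Subgroup G) ⊓ K := by
    refine Subgroup.mem_inf.mpr ⟨?_, mul_mem (hcl x y hy) (inv_mem hyK)⟩
    have hxP : x ∈ (P : Subgroup G) := by
      obtain ⟨m, hm⟩ := exists_pow_eq_self_of_coprime (n := (P : Subgroup G).index) (x := x)
        (Nat.Coprime.coprime_dvd_right hx
            (((Nat.Prime.coprime_iff_not_dvd Fact.out).mpr P.not_dvd_index).pow_left j).symm)
      exact hm ▸ pow_mem (CfsgLib.Fitting.pow_index_mem_of_isNilpotent _ x) m
    have := mul_mem hxP ((inferInstance : (P : Subgroup G).Normal).conj_mem _ (inv_mem hxP) y)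
    simpa [mul_assoc] using this
  rw [inf_eq_bot_of_coprime_card (by rw [he]; exact hKc.symm.pow_left e), Subgroup.mem_bot,
    mul_inv_eq_one, mul_inv_eq_iff_eq_mul] at h1
  exact h1

/-- A finite group in which elements of coprime prime power orders commute is nilpotent. -/
theorem isNilpotent_of_commute
    (h : ∀ (r s : ℕ), r.Prime → s.Prime → r ≠ s → ∀ x y : G, ∀ i j : ℕ, orderOf x ∣ r ^ i →
      orderOf y ∣ s ^ j → x * y = y * x) : Group.IsNilpotent G := by
  apply ((Group.isNilpotent_of_finite_tfae (G := G)).out 0 3).mpr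
  intro r hr P
  rw [← Subgroup.normalizer_eq_top_iff, ← Subgroup.index_eq_one]
  by_contra hne
  obtain ⟨s, hs, hsd⟩ := Nat.exists_prime_and_dvd hne
  haveI := Fact.mk hs
  rcases eq_or_ne r s with rfl | hrs
  · exact P.not_dvd_index (hsd.trans (Subgroup.index_dvd_of_le Subgroup.le_normalizer))
  · obtain ⟨Q⟩ : Nonempty (Sylow s G) := inferInstance
    refine Q.not_dvd_index (hsd.trans (Subgroup.index_dvd_of_le fun y hy => ?_))
    refine Subgroup.mem_normalizer_fintype fun x hx => ?_
    obtain ⟨i, hi⟩ := P.2 ⟨x, hx⟩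
    obtain ⟨j, hj⟩ := Q.2 ⟨y, hy⟩
    have := h r s hr.out hs hrs x y i j (orderOf_dvd_of_pow_eq_one (congrArg Subtype.val hi))
      (orderOf_dvd_of_pow_eq_one (congrArg Subtype.val hj))
    rwa [← this, mul_inv_cancel_right]

variable {p : ℕ}

theorem orderOf_conj (g x : G) : orderOf (g * x * g⁻¹) = orderOf x :=
  MulEquiv.orderOf_eq (MulAut.conj g) x

/-- The `p'`-elements normalising a Hall `p'`-subgroup lie in it. -/
theorem mem_of_mem_sup_of_coprime [Fact p.Prime] {N Q : Subgroup G} [N.Normal] (hNp : IsPGroup p N)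
    (hQ : (Nat.card Q).Coprime p) {c : G} (hc : c ∈ N ⊔ Q) (hcc : (orderOf c).Coprime p)
    (hcn : c ∈ Subgroup.normalizer (Q : Set G)) : c ∈ Q := by
  have hn : Subgroup.zpowers c ≤ Subgroup.normalizer (Q : Set G) := Subgroup.zpowers_le.mpr hcn
  set S := Q ⊔ Subgroup.zpowers c
  have h1 := card_sup_mul_card_inf (K := Q) (S := Subgroup.zpowers c) hn
  have hS : (Nat.card S).Coprime p := by
    refine Nat.Coprime.coprime_dvd_left (Dvd.intro _ h1) ?_
    rw [Nat.card_zpowers]
    exact Nat.Coprime.mul_left hQ hcc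
  have h2 : Nat.card S ∣ Nat.card N * Nat.card Q := by
    obtain ⟨e, he⟩ := IsPGroup.iff_card.mp hNp
    rw [← card_sup_of_coprime Subgroup.le_normalizer_of_normal
      (by rw [he]; exact hQ.symm.pow_left e)]
    exact Subgroup.card_dvd_of_le (sup_le le_sup_right (Subgroup.zpowers_le.mpr hc))
  obtain ⟨e, he⟩ := IsPGroup.iff_card.mp hNp
  rw [he] at h2
  have h3 := Subgroup.eq_of_le_of_card_ge (le_sup_left : Q ≤ S)
    (Nat.le_of_dvd Nat.card_pos ((hS.pow_right e).dvd_of_dvd_mul_left h2))
  rw [h3]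
  exact Subgroup.mem_sup_right (Subgroup.mem_zpowers c)

/-- If `X/N` is nilpotent, the normaliser in `X` of a Hall `p'`-subgroup is nilpotent. -/
theorem isNilpotent_normalizer [Fact p.Prime] {N Q X : Subgroup G} [N.Normal]
    (hNp : IsPGroup p N) (hQ : (Nat.card Q).Coprime p)
    (hX : Group.IsNilpotent (X.map (QuotientGroup.mk' N)))
    (hb : ∀ x ∈ X, (orderOf x).Coprime p → x ∈ N ⊔ Q) :
    Group.IsNilpotent ↥(X ⊓ Subgroup.normalizer (Q : Set G)) := by
  set C := X ⊓ Subgroup.normalizer (Q : Set G)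
  set f := QuotientGroup.mk' N
  have hNQ : N ⊓ Q = ⊥ := inf_eq_bot_of_coprime_card (by
    obtain ⟨e, he⟩ := IsPGroup.iff_card.mp hNp
    rw [he]
    exact hQ.symm.pow_left e)
  -- commutators of elements of coprime orders lie in `N`
  have hmod : ∀ x ∈ X, ∀ y ∈ X, ∀ (r : ℕ), r.Prime → ∀ i, orderOf x ∣ r ^ i →
      (orderOf y).Coprime r → x * y * x⁻¹ * y⁻¹ ∈ N := by
    intro x hx y hy r hr i hi hyr
    haveI := Fact.mk hr
    have h1 : f x * f y = f y * f x := congrArg Subtype.val
      (commute_of_coprime_orderOf (p := r) (x := (⟨f x, Subgroup.mem_map_of_mem f hx⟩ : X.map f))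
        (y := ⟨f y, Subgroup.mem_map_of_mem f hy⟩) (j := i)
        (by rw [← Subgroup.orderOf_coe]; exact (orderOf_map_dvd f x).trans hi)
        (by rw [← Subgroup.orderOf_coe]; exact hyr.coprime_dvd_left (orderOf_map_dvd f y)))
    rw [← QuotientGroup.ker_mk' N, MonoidHom.mem_ker]
    change f (x * y * x⁻¹ * y⁻¹) = 1
    rw [map_mul, map_mul, map_mul, map_inv, map_inv, h1, mul_inv_cancel_right, mul_inv_cancel]
  -- `p`-elements centralise the `p'`-elements
  have hkey : ∀ x ∈ C, ∀ y ∈ C, ∀ i, orderOf x ∣ p ^ i → (orderOf y).Coprime p →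
      x * y = y * x := by
    intro x hx y hy i hi hyp
    have hxn := (Subgroup.mem_inf.mp hx).2
    have hyQ : y ∈ Q := mem_of_mem_sup_of_coprime hNp hQ
      (hb y (Subgroup.mem_inf.mp hy).1 hyp) hyp (Subgroup.mem_inf.mp hy).2
    have h1 : x * y * x⁻¹ * y⁻¹ ∈ N ⊓ Q := Subgroup.mem_inf.mpr
      ⟨hmod x (Subgroup.mem_inf.mp hx).1 y (Subgroup.mem_inf.mp hy).1 p Fact.out i hi hyp,
        mul_mem ((Subgroup.mem_normalizer_iff.mp hxn y).mp hyQ) (inv_mem hyQ)⟩
    rwa [hNQ, Subgroup.mem_bot, mul_inv_eq_one, mul_inv_eq_iff_eq_mul] at h1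
  refine isNilpotent_of_commute fun r s hr hs hrs x y i j hi hj => ?_
  rw [← Subgroup.orderOf_coe] at hi hj
  have hcop : ∀ {a b : ℕ}, a.Prime → b.Prime → a ≠ b → ∀ {z : G} {k : ℕ}, orderOf z ∣ a ^ k →
      (orderOf z).Coprime b := fun ha hb' hab _ k hz =>
    (((Nat.coprime_primes ha hb').mpr hab).pow_left k).coprime_dvd_left hz
  refine Subtype.ext ?_
  change (x : G) * y = y * x
  by_cases hrp : r = p
  · subst hrp
    exact hkey _ x.2 _ y.2 i hi (hcop hs hr (Ne.symm hrs) hj)
  by_cases hsp : s = p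
  · subst hsp
    exact (hkey _ y.2 _ x.2 j hj (hcop hr hs hrs hi)).symm
  have hmem : ∀ z : C, (orderOf (z : G)).Coprime p → (z : G) ∈ Q := fun z hz =>
    mem_of_mem_sup_of_coprime hNp hQ (hb z (Subgroup.mem_inf.mp z.2).1 hz) hz
      (Subgroup.mem_inf.mp z.2).2
  have hxQ := hmem x (hcop hr Fact.out hrp hi)
  have hyQ := hmem y (hcop hs Fact.out hsp hj)
  have h1 : (x : G) * y * (x : G)⁻¹ * (y : G)⁻¹ ∈ N ⊓ Q := Subgroup.mem_inf.mpr
    ⟨hmod x (Subgroup.mem_inf.mp x.2).1 y (Subgroup.mem_inf.mp y.2).1 r hr i hi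
      (hcop hs hr (Ne.symm hrs) hj),
      mul_mem (mul_mem (mul_mem hxQ hyQ) (inv_mem hxQ)) (inv_mem hyQ)⟩
  rwa [hNQ, Subgroup.mem_bot, mul_inv_eq_one, mul_inv_eq_iff_eq_mul] at h1

/-- Every element of order prime to the index `q` of a complement lies in it. -/
def Reduces (K : Nat.Primes → Subgroup G) (C : Subgroup G) : Prop :=
  ∀ (q : Nat.Primes), ∀ x ∈ C, (orderOf x).Coprime q → x ∈ K q

theorem isCarterSubgroup_conj {C : Subgroup G} (h : IsCarterSubgroup C) (g : G) :
    IsCarterSubgroup (MulAut.conj g • C) := by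
  refine ⟨?_, ?_⟩
  · haveI := h.1
    exact Group.nilpotent_of_mulEquiv (Subgroup.equivSMul (MulAut.conj g) C)
  · ext x
    rw [mem_normalizer_iff_conj_smul, mem_conj_smul_iff]
    have : g⁻¹ * x * g ∈ C ↔ MulAut.conj (g⁻¹ * x * g) • C = C := by
      conv_lhs => rw [← h.2]
      exact mem_normalizer_iff_conj_smul
    rw [this, map_mul, map_mul, mul_smul, mul_smul, map_inv, inv_smul_eq_iff]

theorem isCarterSubgroup_subgroupOf {C X : Subgroup G} (h : IsCarterSubgroup C) (hCX : C ≤ X) :
    IsCarterSubgroup (C.subgroupOf X) := by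
  refine ⟨?_, ?_⟩
  · haveI := h.1
    exact Group.nilpotent_of_mulEquiv (Subgroup.subgroupOfEquivOfLe hCX).symm
  · refine le_antisymm (fun x hx => ?_) Subgroup.le_normalizer
    rw [Subgroup.mem_subgroupOf, ← h.2]
    refine Subgroup.mem_normalizer_fintype fun c hc => ?_
    have h1 := (Subgroup.mem_normalizer_iff.mp hx ⟨c, hCX hc⟩).mp
      (Subgroup.mem_subgroupOf.mpr hc)
    simpa [Subgroup.mem_subgroupOf] using h1

universe u

theorem carter_aux (n : ℕ) : ∀ {G : Type u} [Group G] [Finite G] [Group.IsSolvable G],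
    Nat.card G = n →
    (∀ K : Nat.Primes → Subgroup G, IsComplementSystem K →
      ∃ C : Subgroup G, IsCarterSubgroup C ∧ systemNormalizer K ≤ C ∧ Reduces K C) ∧
    ∀ C D : Subgroup G, IsCarterSubgroup C → IsCarterSubgroup D →
      ∃ g : G, MulAut.conj g • C = D := by
  induction n using Nat.strong_induction_on with
  | _ n IH =>
  intro G _ _ _ hn
  subst hn
  rcases subsingleton_or_nontrivial G with hsub | hnt
  · refine ⟨fun K _ => ⟨⊤, ⟨inferInstance, top_unique Subgroup.le_normalizer⟩, le_top,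
      fun q x _ _ => Subsingleton.elim 1 x ▸ one_mem _⟩,
      fun C D _ _ => ⟨1, Subsingleton.elim _ _⟩⟩
  obtain ⟨p, hp, N, hNn, hNne, hNp, -⟩ := exists_normal_pgroup_ne_bot (G := G)
  haveI := hNn
  haveI := Fact.mk hp
  set π : Nat.Primes := ⟨p, hp⟩
  set f := QuotientGroup.mk' N
  have hsurj : Function.Surjective f := QuotientGroup.mk'_surjective N
  have hker : f.ker = N := QuotientGroup.ker_mk' N
  obtain ⟨e, he⟩ := IsPGroup.iff_card.mp hNp
  have hlt : Nat.card (G ⧸ N) < Nat.card G := by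
    rw [Subgroup.card_eq_card_quotient_mul_card_subgroup N]
    exact lt_mul_of_one_lt_right Nat.card_pos (N.one_lt_card_iff_ne_bot.mpr hNne)
  haveI : Group.IsSolvable (G ⧸ N) := Group.isSolvable_of_surjective hsurj
  obtain ⟨IHe, IHc⟩ := IH _ hlt (G := G ⧸ N) rfl
  constructor
  · intro K hK
    have hK' := isComplementSystem_map hK N
    obtain ⟨C', hC', hDC', hRC'⟩ := IHe _ hK'
    set X := C'.comap f
    have hNX : N ≤ X := hker.symm.trans_le (Subgroup.ker_le_comap f C')
    set Q := X ⊓ K π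
    have hQ : (Nat.card Q).Coprime p :=
      (card_coprime hK π).coprime_dvd_left (Subgroup.card_dvd_of_le inf_le_right)
    have hb : ∀ x ∈ X, (orderOf x).Coprime p → x ∈ N ⊔ Q := by
      intro x hx hxp
      have h1 := Subgroup.mem_comap.mpr (hRC' π (f x) hx (hxp.coprime_dvd_left (orderOf_map_dvd f x)))
      rw [Subgroup.comap_map_eq, hker, sup_comm] at h1
      obtain ⟨n, hn, k, hk, rfl⟩ := Subgroup.mem_sup_of_normal_left.mp h1
      refine mul_mem (Subgroup.mem_sup_left hn) (Subgroup.mem_sup_right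
        (Subgroup.mem_inf.mpr ⟨?_, hk⟩))
      simpa using mul_mem (inv_mem (hNX hn)) hx
    have hmap : X.map f = C' := Subgroup.map_comap_eq_self_of_surjective hsurj C'
    set C := X ⊓ Subgroup.normalizer (Q : Set G)
    have hCnil : Group.IsNilpotent C :=
      isNilpotent_normalizer hNp hQ (by rw [hmap]; exact hC'.1) hb
    have hcQ : ∀ c ∈ C, (orderOf c).Coprime p → c ∈ Q := fun c hc hcp =>
      mem_of_mem_sup_of_coprime hNp hQ (hb c (Subgroup.mem_inf.mp hc).1 hcp) hcp
        (Subgroup.mem_inf.mp hc).2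
    have hQcop : ∀ z ∈ Q, (orderOf z).Coprime p := fun z hz =>
      hQ.coprime_dvd_left (Subgroup.orderOf_dvd_natCard Q hz)
    have hQX : Q ≤ X := inf_le_left
    have hXNC : X ≤ N ⊔ C := by
      intro x hx
      have hxQ : MulAut.conj x • Q ≤ N ⊔ Q := by
        intro y hy
        have hy' := mem_conj_smul_iff.mp hy
        refine hb y ?_ ?_
        · simpa [mul_assoc] using mul_mem (mul_mem hx (hQX hy')) (inv_mem hx)
        · rw [← orderOf_conj x⁻¹ y, inv_inv]
          exact hQcop _ hy'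
      obtain ⟨m, hm, hme⟩ := exists_conj_le_of_complement (by
        haveI := hNp.isNilpotent
        infer_instance) (by rw [he]; exact hQ.symm.pow_left e)
        (by rw [he, card_conj_smul]; exact hQ.symm.pow_left e) hxQ
      have hme' : MulAut.conj x • Q = MulAut.conj m • Q :=
        Subgroup.eq_of_le_of_card_ge hme (by rw [card_conj_smul, card_conj_smul])
      have h1 : m⁻¹ * x ∈ C := Subgroup.mem_inf.mpr ⟨mul_mem (inv_mem (hNX hm)) hx, by
        rw [mem_normalizer_iff_conj_smul, map_mul, mul_smul, hme', map_inv, inv_smul_smul]⟩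
      rw [← mul_inv_cancel_left m x]
      exact mul_mem (Subgroup.mem_sup_left hm) (Subgroup.mem_sup_right h1)
    refine ⟨C, ⟨hCnil, le_antisymm (fun g hg => ?_) Subgroup.le_normalizer⟩, ?_, ?_⟩
    · have hgC := Subgroup.mem_normalizer_iff.mp hg
      have hgX : g ∈ X := by
        rw [Subgroup.mem_comap, ← hC'.2]
        refine Subgroup.mem_normalizer_fintype fun y hy => ?_
        obtain ⟨y, rfl⟩ := hsurj y
        obtain ⟨m, hm, c, hc, rfl⟩ := Subgroup.mem_sup_of_normal_left.mp (hXNC hy)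
        have hm1 : f m = 1 := by rwa [← MonoidHom.mem_ker, hker]
        have h2 := (Subgroup.mem_inf.mp ((hgC c).mp hc)).1
        rw [Subgroup.mem_comap, map_mul, map_mul, map_inv] at h2
        rw [map_mul, hm1, one_mul]
        exact h2
      refine Subgroup.mem_inf.mpr ⟨hgX, Subgroup.mem_normalizer_fintype fun z hz => ?_⟩
      exact hcQ _ ((hgC z).mp (Subgroup.mem_inf.mpr ⟨hQX hz, Subgroup.le_normalizer hz⟩))
        (by rw [orderOf_conj]; exact hQcop z hz)
    · intro d hd
      have hdX : d ∈ X :=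
        hDC' ((map_systemNormalizer hK N).symm ▸ Subgroup.mem_map_of_mem f hd)
      refine Subgroup.mem_inf.mpr ⟨hdX, mem_normalizer_iff_conj_smul.mpr ?_⟩
      rw [Subgroup.smul_inf, conj_smul_eq_of_mem hdX,
        conj_smul_eq_self_of_mem_normalizer (systemNormalizer_le π hd)]
    · intro q x hx hxq
      by_cases hq : q = π
      · subst hq
        exact (Subgroup.mem_inf.mp (hcQ x hx hxq)).2
      · have h1 : x ∈ ((K q).map f).comap f := Subgroup.mem_comap.mpr
          (hRC' q (f x) (Subgroup.mem_inf.mp hx).1 (hxq.coprime_dvd_left (orderOf_map_dvd f x)))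
        have hNK : N ≤ K q := le_of_coprime_card hK (by
          rw [he]
          exact ((Nat.coprime_primes hp q.2).mpr fun h => hq (Subtype.ext h.symm)).pow_left e)
        rwa [Subgroup.comap_map_eq, hker, sup_eq_left.mpr hNK] at h1
  · have hsub : ∀ {X C D : Subgroup G}, X ≠ ⊤ → IsCarterSubgroup C → IsCarterSubgroup D → C ≤ X →
        D ≤ X → ∃ x ∈ X, MulAut.conj x • C = D := by
      intro X C D hX hC hD hCX hDX
      have hXlt : Nat.card X < Nat.card G :=
        lt_of_le_of_ne (Nat.le_of_dvd Nat.card_pos (Subgroup.card_subgroup_dvd_card X))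
          fun h => hX (Subgroup.eq_top_of_card_eq _ h)
      obtain ⟨⟨x, hx⟩, hxe⟩ := (IH _ hXlt (G := X) rfl).2 _ _
        (isCarterSubgroup_subgroupOf hC hCX) (isCarterSubgroup_subgroupOf hD hDX)
      refine ⟨x, hx, ?_⟩
      ext z
      rw [mem_conj_smul_iff]
      constructor
      · intro hz
        have h1 := conj_mem_conj_smul (g := (⟨x, hx⟩ : X)) (H := C.subgroupOf X)
          (x := ⟨x⁻¹ * z * x, hCX hz⟩) (Subgroup.mem_subgroupOf.mpr hz)
        rw [hxe, Subgroup.mem_subgroupOf] at h1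
        simpa [mul_assoc] using h1
      · intro hz
        have h1 : (⟨z, hDX hz⟩ : X) ∈ D.subgroupOf X := Subgroup.mem_subgroupOf.mpr hz
        rw [← hxe, mem_conj_smul_iff, Subgroup.mem_subgroupOf] at h1
        simpa using h1
    have himg : ∀ {C : Subgroup G}, IsCarterSubgroup C → IsCarterSubgroup (C.map f) := by
      intro C hC
      refine ⟨?_, le_antisymm ?_ Subgroup.le_normalizer⟩
      · haveI := hC.1
        exact Group.nilpotent_of_surjective _ (f.subgroupMap_surjective C)
      intro y hy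
      obtain ⟨g, rfl⟩ := hsurj y
      by_cases hX : N ⊔ C = ⊤
      · have h1 : g ∈ N ⊔ C := hX ▸ Subgroup.mem_top g
        obtain ⟨m, hm, c, hc, rfl⟩ := Subgroup.mem_sup_of_normal_left.mp h1
        rw [map_mul, show f m = 1 by rwa [← MonoidHom.mem_ker, hker], one_mul]
        exact Subgroup.mem_map_of_mem f hc
      have hgX : MulAut.conj g • C ≤ N ⊔ C := by
        intro z hz
        obtain ⟨c, hc, rfl⟩ : ∃ c ∈ C, z = g * c * g⁻¹ :=
          ⟨_, mem_conj_smul_iff.mp hz, by group⟩
        have h1 := (Subgroup.mem_normalizer_iff.mp hy _).mp (Subgroup.mem_map_of_mem f hc)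
        rw [← map_inv, ← map_mul, ← map_mul, ← Subgroup.mem_comap] at h1
        rwa [Subgroup.comap_map_eq, hker, sup_comm] at h1
      obtain ⟨x, hx, hxe⟩ := hsub hX hC (isCarterSubgroup_conj hC g) le_sup_right hgX
      have h2 : x⁻¹ * g ∈ C := by
        rw [← hC.2, mem_normalizer_iff_conj_smul, map_mul, mul_smul, ← hxe, map_inv,
          inv_smul_smul]
      have h3 : g ∈ N ⊔ C := mul_inv_cancel_left x g ▸ mul_mem hx (Subgroup.mem_sup_right h2)
      obtain ⟨m, hm, c, hc, rfl⟩ := Subgroup.mem_sup_of_normal_left.mp h3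
      rw [map_mul, show f m = 1 by rwa [← MonoidHom.mem_ker, hker], one_mul]
      exact Subgroup.mem_map_of_mem f hc
    intro C D hC hD
    obtain ⟨y, hy⟩ := IHc _ _ (himg hC) (himg hD)
    obtain ⟨g, rfl⟩ := hsurj y
    rw [← map_conj_smul] at hy
    have hCg := isCarterSubgroup_conj hC g
    have hsup : N ⊔ MulAut.conj g • C = N ⊔ D := by
      have h2 := congrArg (Subgroup.comap f) hy
      rwa [Subgroup.comap_map_eq, Subgroup.comap_map_eq, hker, sup_comm, sup_comm D] at h2
    by_cases hX : N ⊔ D = ⊤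
    swap
    · obtain ⟨x, -, hx⟩ := hsub hX hCg hD (hsup ▸ le_sup_right) le_sup_right
      exact ⟨x * g, by rw [map_mul, mul_smul]; exact hx⟩
    have hnorm : ∀ {E : Subgroup G}, IsCarterSubgroup E → N ⊔ E = ⊤ →
        ∃ Q : Subgroup G, (Nat.card Q).Coprime p ∧ (∃ i, Q.index ∣ p ^ i) ∧
          Subgroup.normalizer (Q : Set G) = E := by
      intro E hE hNE
      haveI := hE.1
      obtain ⟨KE, hKE⟩ := exists_complementSystem (G := E)
      set Q := (KE π).map E.subtype
      have hQc : (Nat.card Q).Coprime p := by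
        rw [Subgroup.card_map_of_injective E.subtype_injective]
        exact card_coprime hKE π
      have hEi : E.index ∣ p ^ e := by
        have h1 := card_sup_mul_card_inf (K := N) (S := E) Subgroup.le_normalizer_of_normal
        rw [hNE, Subgroup.card_top, ← E.index_mul_card] at h1
        rw [← he]
        exact Dvd.intro (Nat.card ↥(N ⊓ E))
          (Nat.eq_of_mul_eq_mul_right (Nat.card_pos (α := E)) (by rw [mul_right_comm]; exact h1))
      refine ⟨Q, hQc, ⟨(Nat.card E).factorization π + e, ?_⟩, ?_⟩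
      · rw [Subgroup.index_map_subtype, pow_add, hKE π]
        exact mul_dvd_mul dvd_rfl hEi
      have hEn : E ≤ Subgroup.normalizer (Q : Set G) := by
        intro g hg
        refine Subgroup.mem_normalizer_fintype ?_
        rintro _ ⟨z, hz, rfl⟩
        refine ⟨⟨g, hg⟩ * z * ⟨g, hg⟩⁻¹, mem_of_coprime_orderOf_of_isNilpotent
          (dvd_of_eq (hKE π)) ?_, by simp⟩
        rw [orderOf_conj]
        exact (card_coprime hKE π).coprime_dvd_left (Subgroup.orderOf_dvd_natCard _ hz)
      have hmapE : (⊤ : Subgroup G).map f = E.map f := by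
        rw [← hNE, Subgroup.map_sup, (Subgroup.map_eq_bot_iff _).mpr hker.ge, bot_sup_eq]
      haveI : Group.IsNilpotent (G ⧸ N) := by
        haveI : Group.IsNilpotent (E.map f) :=
          Group.nilpotent_of_surjective _ (f.subgroupMap_surjective E)
        rw [← hmapE, Subgroup.map_top_of_surjective f hsurj] at this
        exact Group.nilpotent_of_mulEquiv Subgroup.topEquiv
      have hnil : Group.IsNilpotent ↥((⊤ : Subgroup G) ⊓ Subgroup.normalizer (Q : Set G)) :=
        isNilpotent_normalizer hNp hQc (by infer_instance) (fun x _ hxp => by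
          have hQi : Q.index ∣ p ^ ((Nat.card E).factorization π + e) := by
            rw [Subgroup.index_map_subtype, pow_add, hKE π]
            exact mul_dvd_mul dvd_rfl hEi
          have h1 : f x ∈ Q.map f := mem_of_coprime_orderOf_of_isNilpotent
            ((Subgroup.index_map_dvd _ hsurj).trans hQi)
            (hxp.coprime_dvd_left (orderOf_map_dvd f x))
          have h2 := Subgroup.mem_comap.mpr h1
          rwa [Subgroup.comap_map_eq, hker, sup_comm] at h2)
      rw [top_inf_eq] at hnil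
      by_contra hne
      set M := Subgroup.normalizer (Q : Set G)
      have hlt' : E.subgroupOf M < ⊤ := lt_top_iff_ne_top.mpr fun h =>
        hne (le_antisymm (Subgroup.subgroupOf_eq_top.mp h) hEn)
      obtain ⟨⟨z, hzM⟩, hz, hznot⟩ := SetLike.exists_of_lt
        (Group.normalizerCondition_of_isNilpotent (E.subgroupOf M) hlt')
      refine hznot (Subgroup.mem_subgroupOf.mpr ?_)
      change z ∈ E
      rw [← hE.2]
      refine Subgroup.mem_normalizer_fintype fun c hc => ?_
      exact Subgroup.mem_subgroupOf.mp ((Subgroup.mem_normalizer_iff.mp hz ⟨c, hEn hc⟩).mp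
        (Subgroup.mem_subgroupOf.mpr hc))
    obtain ⟨Q₁, hQ₁, ⟨i₁, hi₁⟩, hN₁⟩ := hnorm hCg (hsup.trans hX)
    obtain ⟨Q₂, hQ₂, ⟨i₂, hi₂⟩, hN₂⟩ := hnorm hD hX
    have hmn : Nat.card Q₂ * Q₂.index = Nat.card G := Q₂.card_mul_index
    have hcard : Nat.card Q₁ = Nat.card Q₂ := by
      refine Nat.dvd_antisymm ?_ ?_
      · exact Nat.Coprime.dvd_of_dvd_mul_right
          ((hQ₁.pow_right i₂).coprime_dvd_right hi₂) (hmn.symm ▸ Q₁.card_subgroup_dvd_card)
      · exact Nat.Coprime.dvd_of_dvd_mul_right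
          ((hQ₂.pow_right i₁).coprime_dvd_right hi₁)
          (Q₁.card_mul_index.symm ▸ Q₂.card_subgroup_dvd_card)
    obtain ⟨x, hx⟩ := exists_conj_eq hmn.symm ((hQ₂.pow_right i₂).coprime_dvd_right hi₂) hcard
      (K := Q₂) rfl
    refine ⟨x * g, ?_⟩
    rw [map_mul, mul_smul, ← hN₁, ← hN₂, ← hx]
    ext z
    rw [mem_conj_smul_iff, mem_normalizer_iff_conj_smul, mem_normalizer_iff_conj_smul, map_mul,
      map_mul, mul_smul, mul_smul, map_inv, inv_smul_eq_iff]

variable [Group.IsSolvable G]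

theorem exists_carter_ge_systemNormalizer {K : Nat.Primes → Subgroup G}
    (hK : IsComplementSystem K) :
    ∃ C : Subgroup G, IsCarterSubgroup C ∧ systemNormalizer K ≤ C ∧ Reduces K C :=
  (carter_aux _ rfl).1 K hK

theorem carter_conj {C D : Subgroup G} (hC : IsCarterSubgroup C) (hD : IsCarterSubgroup D) :
    ∃ g : G, MulAut.conj g • C = D :=
  (carter_aux _ rfl).2 C D hC hD

end CfsgLib.Hall

namespace CfsgLib.Hall

open Pointwise
open CfsgLib.Coprime Cfsg

variable {G : Type*} [Group G] [Finite G]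

theorem le_systemNormalizer_of_reduces [Group.IsSolvable G] {F : Subgroup G} [F.Normal]
    (hF : Group.IsNilpotent F) (hGF : Group.IsNilpotent (G ⧸ F))
    {K : Nat.Primes → Subgroup G} (hK : IsComplementSystem K) {C : Subgroup G}
    (hC : IsCarterSubgroup C) (hR : Reduces K C) : C ≤ systemNormalizer K := by
  haveI := hC.1
  -- `C` covers the nilpotent quotient
  have hsup : F ⊔ C = ⊤ := by
    by_contra hne
    set f := QuotientGroup.mk' F
    have hlt : C.map f < ⊤ := lt_top_iff_ne_top.mpr fun h => hne (by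
      have h2 := congrArg (Subgroup.comap f) h
      rwa [Subgroup.comap_map_eq, QuotientGroup.ker_mk', Subgroup.comap_top, sup_comm] at h2)
    obtain ⟨y, hy, hnot⟩ := SetLike.exists_of_lt (Group.normalizerCondition_of_isNilpotent _ hlt)
    obtain ⟨g, rfl⟩ := QuotientGroup.mk'_surjective F y
    have hgX : MulAut.conj g • C ≤ F ⊔ C := by
      intro z hz
      have h1 := (Subgroup.mem_normalizer_iff.mp hy _).mp
        (Subgroup.mem_map_of_mem f (mem_conj_smul_iff.mp hz))
      rw [← map_inv, ← map_mul, ← map_mul, ← Subgroup.mem_comap, Subgroup.comap_map_eq,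
        QuotientGroup.ker_mk', sup_comm] at h1
      simpa [mul_assoc] using h1
    obtain ⟨⟨x, hx⟩, hxe⟩ := carter_conj (G := ↥(F ⊔ C))
      (isCarterSubgroup_subgroupOf hC le_sup_right)
      (isCarterSubgroup_subgroupOf (isCarterSubgroup_conj hC g) hgX)
    have hxC : MulAut.conj x • C = MulAut.conj g • C := by
      refine Subgroup.eq_of_le_of_card_ge (fun z hz => ?_) (by rw [card_conj_smul, card_conj_smul])
      have h1 := conj_mem_conj_smul (g := (⟨x, hx⟩ : ↥(F ⊔ C))) (H := C.subgroupOf (F ⊔ C))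
        (x := ⟨x⁻¹ * z * x, Subgroup.mem_sup_right (mem_conj_smul_iff.mp hz)⟩)
        (Subgroup.mem_subgroupOf.mpr (mem_conj_smul_iff.mp hz))
      rw [hxe, Subgroup.mem_subgroupOf] at h1
      simpa [mul_assoc] using h1
    have h2 : x⁻¹ * g ∈ C := by
      rw [← hC.2, mem_normalizer_iff_conj_smul, map_mul, mul_smul, ← hxC, map_inv, inv_smul_smul]
    have h3 : g ∈ F ⊔ C := mul_inv_cancel_left x g ▸ mul_mem hx (Subgroup.mem_sup_right h2)
    obtain ⟨m, hm, c, hc, rfl⟩ := Subgroup.mem_sup_of_normal_left.mp h3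
    refine hnot ?_
    rw [map_mul, show f m = 1 by rwa [← MonoidHom.mem_ker, QuotientGroup.ker_mk'], one_mul]
    exact Subgroup.mem_map_of_mem f hc
  intro c hc
  refine mem_systemNormalizer.mpr fun q => ?_
  haveI : Fact (q : ℕ).Prime := ⟨q.2⟩
  haveI := hF
  set a := (Nat.card G).factorization q
  have hKc : ∀ z ∈ K q, (orderOf z).Coprime q := fun z hz =>
    (card_coprime hK q).coprime_dvd_left (Subgroup.orderOf_dvd_natCard _ hz)
  have hFmem : ∀ z ∈ F, (orderOf z).Coprime q → z ∈ K q := by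
    intro z hz hzq
    refine Subgroup.mem_subgroupOf.mp (mem_of_coprime_orderOf_of_isNilpotent (G := F) (k := a)
      (x := ⟨z, hz⟩) ?_ (by rwa [← Subgroup.orderOf_coe]))
    rw [← hK q]
    exact CfsgLib.Fitting.relIndex_dvd_index_of_normal_right _ _
  set H := (K q ⊓ F) ⊔ (K q ⊓ C)
  have hHF : H ⊔ F = (K q ⊓ C) ⊔ F := by
    refine le_antisymm (sup_le (sup_le (inf_le_right.trans le_sup_right) le_sup_left) le_sup_right)
      (sup_le_sup_right le_sup_right _)
  haveI hFn : Group.IsNilpotent (G ⧸ F) := hGF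
  have hi1 : (H ⊔ F).index ∣ (q : ℕ) ^ (H ⊔ F).index := by
    refine index_dvd_prime_pow fun x hx => ?_
    have hcov : ((K q ⊓ C).map (QuotientGroup.mk' F)).index ∣ (q : ℕ) ^ ((K q).relIndex C) := by
      have hsurj : Function.Surjective ((QuotientGroup.mk' F).comp C.subtype) := by
        intro y
        obtain ⟨g, rfl⟩ := QuotientGroup.mk'_surjective F y
        obtain ⟨m, hm, d, hd, rfl⟩ := Subgroup.mem_sup_of_normal_left.mp
          (hsup ▸ Subgroup.mem_top g : g ∈ F ⊔ C)
        refine ⟨⟨d, hd⟩, ?_⟩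
        rw [map_mul, show QuotientGroup.mk' F m = 1 by
          rwa [← MonoidHom.mem_ker, QuotientGroup.ker_mk'], one_mul]
        rfl
      have h1 : ((K q ⊓ C).map (QuotientGroup.mk' F)) =
          ((K q).subgroupOf C).map ((QuotientGroup.mk' F).comp C.subtype) := by
        rw [← Subgroup.map_map, Subgroup.subgroupOf_map_subtype]
      rw [h1]
      refine (Subgroup.index_map_dvd _ hsurj).trans (index_dvd_prime_pow fun z hz => ?_)
      exact Subgroup.mem_subgroupOf.mpr (hR q z z.2 (by rwa [Subgroup.orderOf_coe]))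
    have h2 := Subgroup.mem_comap.mpr (mem_of_coprime_orderOf_of_isNilpotent hcov
      (hx.coprime_dvd_left (orderOf_map_dvd (QuotientGroup.mk' F) x)))
    rwa [Subgroup.comap_map_eq, QuotientGroup.ker_mk', ← hHF] at h2
  have hi2 : H.relIndex F ∣ (q : ℕ) ^ (H.relIndex F) := by
    refine index_dvd_prime_pow fun z hz => ?_
    rw [← Subgroup.orderOf_coe] at hz
    exact Subgroup.mem_subgroupOf.mpr
      (Subgroup.mem_sup_left (Subgroup.mem_inf.mpr ⟨hFmem z z.2 hz, z.2⟩))
  have hG : Nat.card G = Nat.card H * ((H ⊔ F).index * H.relIndex F) := by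
    have h1 := card_sup_mul_card_inf (K := F) (S := H) Subgroup.le_normalizer_of_normal
    have h2 := relIndex_mul_card_inf H F
    rw [sup_comm, inf_comm, ← h2] at h1
    have h3 : Nat.card ↥(H ⊔ F) = H.relIndex F * Nat.card H :=
      Nat.eq_of_mul_eq_mul_right (Nat.card_pos (α := ↥(H ⊓ F))) (by rw [mul_right_comm]; exact h1)
    rw [← (H ⊔ F).card_mul_index, h3]
    ring
  have hHK : H ≤ K q := sup_le inf_le_left inf_le_left
  have hHe : H = K q := by
    refine Subgroup.eq_of_le_of_card_ge hHK (Nat.le_of_dvd Nat.card_pos ?_)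
    refine Nat.Coprime.dvd_of_dvd_mul_right ?_ (hG ▸ (K q).card_subgroup_dvd_card)
    exact (Nat.Coprime.mul_right (((card_coprime hK q).pow_right _).coprime_dvd_right hi1)
      (((card_coprime hK q).pow_right _).coprime_dvd_right hi2))
  refine conj_smul_eq_self_of_mem_normalizer (Subgroup.mem_normalizer_fintype fun z hz => ?_)
  have hle : MulAut.conj c • H ≤ H := by
    rw [sup_conj_smul]
    refine sup_le (fun w hw => Subgroup.mem_sup_left ?_) (fun w hw => Subgroup.mem_sup_right ?_)
    · have hw' := mem_conj_smul_iff.mp hw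
      have h1 := Subgroup.mem_inf.mp hw'
      have h2 : w ∈ F := by
        simpa [mul_assoc] using (inferInstance : F.Normal).conj_mem _ h1.2 c
      refine Subgroup.mem_inf.mpr ⟨hFmem w h2 ?_, h2⟩
      rw [← orderOf_conj c⁻¹ w, inv_inv]
      exact hKc _ h1.1
    · have hw' := mem_conj_smul_iff.mp hw
      have h1 := Subgroup.mem_inf.mp hw'
      have h2 : w ∈ C := by
        simpa [mul_assoc] using mul_mem (mul_mem hc h1.2) (inv_mem hc)
      refine Subgroup.mem_inf.mpr ⟨hR q w h2 ?_, h2⟩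
      rw [← orderOf_conj c⁻¹ w, inv_inv]
      exact hKc _ h1.1
  rw [hHe] at hle
  exact hle (conj_mem_conj_smul hz)

end CfsgLib.Hall
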