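import Mathlib
import Cfsg.Agent.Lib.PSolvable.Core
import Cfsg.Agent.Lib.Hall.System

/-!
Chief factors of finite solvable groups and complement systems.
-/

set_option autoImplicit false
set_option linter.style.haveILetI false

open Pointwise
open scoped commutatorElement
open CfsgLib.Coprime Cfsg

namespace CfsgLib.Hall

variable {G : Type*} [Group G] [Finite G] [Group.IsSolvable G]

theorem exists_prime_isPGroup_of_minimal {B : Subgroup G} [B.Normal] (hB : B ≠ ⊥)
    (hmin : ∀ N : Subgroup G, N.Normal → N ≤ B → N = ⊥ ∨ N = B) :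
    ∃ p : ℕ, p.Prime ∧ IsPGroup p B := by
  haveI : Nontrivial B := (Subgroup.nontrivial_iff_ne_bot B).mpr hB
  obtain ⟨p, hp, N, hN, hNne, hNp, -⟩ := exists_normal_pgroup_ne_bot (G := B)
  haveI := Fact.mk hp
  refine ⟨p, hp, ?_⟩
  have h1 : N.map B.subtype ≤ Cfsg.pCore p G ⊓ B :=
    le_inf ((Subgroup.map_mono (CfsgLib.Fitting.le_pCore hN hNp)).trans
      (CfsgLib.PSolvable.map_pCore_le B)) (Subgroup.map_subtype_le _)
  have h2 : Cfsg.pCore p G ⊓ B ≠ ⊥ := fun h => hNne (by
    rw [h, le_bot_iff, Subgroup.map_eq_bot_iff_of_injective _ B.subtype_injective] at h1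
    exact h1)
  haveI := CfsgLib.Fitting.pCore_normal (G := G) p
  have h3 := (hmin _ inferInstance inf_le_right).resolve_left h2
  exact ((CfsgLib.Fitting.pCore_isPGroup p).to_le inf_le_left : IsPGroup p ↥(Cfsg.pCore p G ⊓ B))
    |> fun h => h3 ▸ h

/-- A system normaliser avoids every eccentric minimal normal subgroup. -/
theorem inf_systemNormalizer_eq_bot {K : Nat.Primes → Subgroup G} (hK : IsComplementSystem K)
    {B : Subgroup G} [B.Normal] (hB : B ≠ ⊥)
    (hmin : ∀ N : Subgroup G, N.Normal → N ≤ B → N = ⊥ ∨ N = B)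
    (hecc : ⁅B, (⊤ : Subgroup G)⁆ ≠ ⊥) : B ⊓ systemNormalizer K = ⊥ := by
  classical
  obtain ⟨p, hp, hBp⟩ := exists_prime_isPGroup_of_minimal hB hmin
  haveI := Fact.mk hp
  set q : Nat.Primes := ⟨p, hp⟩
  set C := Subgroup.centralizer (B : Set G)
  haveI : C.Normal := Subgroup.normal_centralizer
  have hC : C ≠ ⊤ := fun h => hecc (by
    rw [Subgroup.commutator_comm, Subgroup.commutator_eq_bot_iff_le_centralizer]
    exact h.ge)
  -- elements of `B` normalising the complement centralise it
  have hcent : B ⊓ systemNormalizer K ≤ Subgroup.centralizer (K q : Set G) := by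
    intro b hb
    have hbB : b ∈ B := (Subgroup.mem_inf.mp hb).1
    refine Subgroup.mem_centralizer_iff.mpr fun x hx => ?_
    have h1 : x * b * x⁻¹ * b⁻¹ ∈ B ⊓ K q := by
      refine Subgroup.mem_inf.mpr ⟨mul_mem ((inferInstance : B.Normal).conj_mem b hbB x) (inv_mem hbB), ?_⟩
      have hn := Subgroup.mem_normalizer_iff.mp (systemNormalizer_le (K := K) q hb.2)
      have h2 : b * x⁻¹ * b⁻¹ ∈ K q := (hn x⁻¹).mp ((K q).inv_mem hx)
      simpa [mul_assoc] using mul_mem hx h2
    have h3 : B ⊓ K q = ⊥ := inf_eq_bot_of_coprime_card (by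
      obtain ⟨e, he⟩ := IsPGroup.iff_card.mp hBp
      rw [he]
      exact ((card_coprime hK q).symm).pow_left e)
    rw [h3, Subgroup.mem_bot, mul_inv_eq_one, mul_inv_eq_iff_eq_mul] at h1
    exact h1
  set f := QuotientGroup.mk' C
  have hsurj : Function.Surjective f := QuotientGroup.mk'_surjective C
  haveI : Nontrivial (G ⧸ C) := QuotientGroup.nontrivial_iff.mpr hC
  haveI : Group.IsSolvable (G ⧸ C) := Group.isSolvable_of_surjective hsurj
  obtain ⟨r, hr, R₀, hR₀, hR₀ne, hR₀p, -⟩ := exists_normal_pgroup_ne_bot (G := G ⧸ C)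
  haveI := Fact.mk hr
  set R := R₀.comap f
  have hCR : C ≤ R := fun x hx => by
    rw [Subgroup.mem_comap, QuotientGroup.mk'_apply, (QuotientGroup.eq_one_iff x).mpr hx]
    exact one_mem _
  haveI : R.Normal := inferInstance
  have hRC : ¬ R ≤ C := fun h => hR₀ne (by
    rw [← Subgroup.map_comap_eq_self_of_surjective hsurj R₀, Subgroup.map_eq_bot_iff,
      QuotientGroup.ker_mk']
    exact h)
  by_cases hrp : r = p
  · subst hrp
    exfalso
    obtain ⟨P⟩ : Nonempty (Sylow r R) := inferInstance
    set P₁ := (P : Subgroup R).map R.subtype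
    have hRsup : R = C ⊔ P₁ := by
      refine le_antisymm ?_ (sup_le hCR (Subgroup.map_subtype_le _))
      intro x hx
      haveI : (C.subgroupOf R).Normal := inferInstance
      have hrel : (C.subgroupOf R ⊔ (P : Subgroup R)).index = 1 := by
        refine Nat.eq_one_of_dvd_coprimes (a := r ^ (Nat.card R₀).factorization r) ?_ ?_
          (Subgroup.index_dvd_of_le le_sup_right)
        · exact ((Nat.Prime.coprime_iff_not_dvd hr).mpr P.not_dvd_index).pow_left _
        · refine (Subgroup.index_dvd_of_le le_sup_left).trans ?_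
          obtain ⟨e, he⟩ := IsPGroup.iff_card.mp hR₀p
          rw [he, Nat.factorization_pow, Finsupp.smul_apply, hr.factorization_self]
          simp only [smul_eq_mul, mul_one]
          rw [← he]
          have h1 : C.relIndex R * R.index = C.index := Subgroup.relIndex_mul_index hCR
          rw [Subgroup.index_comap_of_surjective _ hsurj, Subgroup.index_eq_card C,
            ← R₀.card_mul_index] at h1
          exact dvd_of_eq (Nat.eq_of_mul_eq_mul_right
            (Nat.pos_of_ne_zero R₀.index_ne_zero_of_finite) h1)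
      have h2 : (⟨x, hx⟩ : R) ∈ C.subgroupOf R ⊔ (P : Subgroup R) := by
        rw [Subgroup.index_eq_one.mp hrel]; trivial
      have h3 := Subgroup.mem_map_of_mem R.subtype h2
      rw [Subgroup.map_sup, Subgroup.map_subgroupOf_eq_of_le hCR] at h3
      exact h3
    have hX : IsPGroup r ↥(B ⊔ P₁) := hBp.to_sup_of_normal_left (P.2.map _)
    haveI : Group.IsNilpotent ↥(B ⊔ P₁) := hX.isNilpotent
    have hlt := commutator_lt_of_isNilpotent (X := B ⊔ P₁) (U := B) (P := P₁) le_sup_left
      le_sup_right Subgroup.le_normalizer_of_normal hB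
    haveI : (⁅B, R⁆).Normal := Subgroup.commutator_normal B R
    rcases hmin _ inferInstance (Subgroup.commutator_le_left B R) with h | h
    · refine hRC ?_
      rw [Subgroup.commutator_comm, Subgroup.commutator_eq_bot_iff_le_centralizer] at h
      exact h
    · refine hlt.not_ge (h.ge.trans ?_)
      rw [Subgroup.commutator_le]
      intro b hb y hy
      rw [hRsup] at hy
      obtain ⟨c, hc, w, hw, rfl⟩ := Subgroup.mem_sup_of_normal_left.mp hy
      have hcb : w * b⁻¹ * w⁻¹ ∈ B := (inferInstance : B.Normal).conj_mem _ (inv_mem hb) w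
      have h4 := Subgroup.mem_centralizer_iff.mp hc _ hcb
      have : ⁅b, c * w⁆ = ⁅b, w⁆ := by
        simp only [commutatorElement_def, mul_inv_rev]
        calc b * (c * w) * b⁻¹ * (w⁻¹ * c⁻¹) = b * (c * (w * b⁻¹ * w⁻¹)) * c⁻¹ := by group
          _ = b * ((w * b⁻¹ * w⁻¹) * c) * c⁻¹ := by rw [h4]
          _ = b * w * b⁻¹ * w⁻¹ := by group
      exact this ▸ Subgroup.commutator_mem_commutator hb hw
  · have hRK : R ≤ C ⊔ K q := by
      have h1 : R₀ ≤ (K q).map f := le_of_coprime_card (K := fun s => (K s).map f)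
        (isComplementSystem_map hK C) (p := q) (by
          obtain ⟨e, he⟩ := IsPGroup.iff_card.mp hR₀p
          rw [he]
          exact ((Nat.coprime_primes hr hp).mpr hrp).pow_left e)
      have h2 := Subgroup.comap_mono (f := f) h1
      rwa [Subgroup.comap_map_eq, QuotientGroup.ker_mk', sup_comm] at h2
    haveI : (B ⊓ Subgroup.centralizer (R : Set G)).Normal := by
      haveI : (Subgroup.centralizer (R : Set G)).Normal := Subgroup.normal_centralizer
      infer_instance
    have hle : B ⊓ systemNormalizer K ≤ B ⊓ Subgroup.centralizer (R : Set G) := by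
      refine le_inf inf_le_left fun b hb => ?_
      have h1 : C ⊔ K q ≤ Subgroup.centralizer ({b} : Set G) := by
        refine sup_le (fun c hc => ?_) (fun x hx => ?_)
        · exact Subgroup.mem_centralizer_singleton_iff.mpr
            (Subgroup.mem_centralizer_iff.mp hc b hb.1).symm
        · exact Subgroup.mem_centralizer_singleton_iff.mpr
            (Subgroup.mem_centralizer_iff.mp (hcent hb) x hx)
      exact Subgroup.mem_centralizer_iff.mpr fun x hx =>
        Subgroup.mem_centralizer_singleton_iff.mp (h1 (hRK hx))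
    rcases hmin (B ⊓ Subgroup.centralizer (R : Set G)) inferInstance inf_le_left with h | h
    · exact le_bot_iff.mp (hle.trans h.le)
    · refine absurd ?_ hRC
      intro x hx
      exact Subgroup.mem_centralizer_iff.mpr fun b hb =>
        ((Subgroup.mem_centralizer_iff.mp (h.ge hb).2 x hx)).symm

end CfsgLib.Hall
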