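import Mathlib
import Cfsg.Agent.Lib.Hall.Basic
import Cfsg.Agent.Lib.PSolvable.Core

/-!
# Invariant Hall subgroups under coprime action on a solvable group
-/

set_option autoImplicit false
set_option linter.style.haveILetI false

namespace CfsgLib.Hall

open scoped Pointwise
open CfsgLib.Coprime

universe u

variable {X : Type u} [Group X] [Finite X]

/-- A natural number splits into its `π`-part and the rest. -/
theorem exists_pi_split (π : Set ℕ) {k : ℕ} (hk : k ≠ 0) :
    ∃ m n : ℕ, k = m * n ∧ m.Coprime n ∧ (∀ p : ℕ, p.Prime → p ∣ m → p ∈ π) ∧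
      ∀ p : ℕ, p.Prime → p ∣ n → p ∉ π := by
  classical
  induction k using Nat.recOnPrimeCoprime with
  | zero => exact absurd rfl hk
  | prime_pow q i hq =>
    have h1 : ∀ p : ℕ, p.Prime → p ∣ q ^ i → p = q := fun p hp h =>
      (Nat.prime_dvd_prime_iff_eq hp hq).mp (hp.dvd_of_dvd_pow h)
    by_cases hmem : q ∈ π
    · exact ⟨q ^ i, 1, by simp, Nat.coprime_one_right _, fun p hp h => h1 p hp h ▸ hmem,
        fun p hp h => absurd h hp.not_dvd_one⟩
    · exact ⟨1, q ^ i, by simp, Nat.coprime_one_left _, fun p hp h => absurd h hp.not_dvd_one,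
        fun p hp h => h1 p hp h ▸ hmem⟩
  | coprime a b ha hb hab iha ihb =>
    obtain ⟨m₁, n₁, e₁, -, hm₁, hn₁⟩ := iha (by omega)
    obtain ⟨m₂, n₂, e₂, -, hm₂, hn₂⟩ := ihb (by omega)
    have hm : ∀ p : ℕ, p.Prime → p ∣ m₁ * m₂ → p ∈ π := fun p hp h =>
      (hp.dvd_mul.mp h).elim (hm₁ p hp) (hm₂ p hp)
    have hn : ∀ p : ℕ, p.Prime → p ∣ n₁ * n₂ → p ∉ π := fun p hp h =>
      (hp.dvd_mul.mp h).elim (hn₁ p hp) (hn₂ p hp)
    exact ⟨m₁ * m₂, n₁ * n₂, by rw [e₁, e₂]; ring,
      Nat.coprime_of_dvd fun p hp h1 h2 => hn p hp h2 (hm p hp h1), hm, hn⟩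

/-- An invariant Hall subgroup exists. -/
theorem exists_invariant_hall {A K : Subgroup X} (hAK : A ≤ Subgroup.normalizer (K : Set X))
    (hcop : (Nat.card A).Coprime (Nat.card K)) (hK : Group.IsSolvable K) {m n : ℕ}
    (hG : Nat.card K = m * n) (hmn : m.Coprime n) :
    ∃ H : Subgroup X, H ≤ K ∧ Nat.card H = m ∧ A ≤ Subgroup.normalizer (H : Set X) := by
  classical
  letI : MulAction X (Subgroup X) := MulAction.compHom _ (MulAut.conj : X →* MulAut X)
  haveI := hK
  obtain ⟨H₀, hH₀⟩ := exists_hall hG hmn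
  set ω := H₀.map K.subtype with hω
  have horb : ∀ a ∈ A, ∃ k ∈ K, a • ω = k • ω := by
    intro a ha
    have hle : MulAut.conj a • ω ≤ K := by
      calc MulAut.conj a • ω ≤ MulAut.conj a • K :=
            Subgroup.map_mono (Subgroup.map_subtype_le _)
        _ = K := conj_smul_eq_self_of_mem_normalizer (hAK ha)
    obtain ⟨k, hk⟩ := exists_conj_eq hG hmn hH₀ (K := (MulAut.conj a • ω).subgroupOf K) (by
      rw [Nat.card_congr (Subgroup.subgroupOfEquivOfLe hle).toEquiv, card_conj_smul, hω,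
        Subgroup.card_map_of_injective K.subtype_injective, hH₀])
    refine ⟨k, k.2, ?_⟩
    show MulAut.conj a • ω = MulAut.conj (k : X) • ω
    have h1 := congrArg (Subgroup.map K.subtype) hk
    rw [map_conj_smul, Subgroup.map_subgroupOf_eq_of_le hle] at h1
    exact h1.symm
  obtain ⟨k, hk, hfix⟩ := exists_fixed_of_coprime hAK hcop (Or.inr hK) ω horb
  refine ⟨MulAut.conj k • ω, ?_, ?_, fun a ha => mem_normalizer_iff_conj_smul.mpr (hfix a ha)⟩
  · calc MulAut.conj k • ω ≤ MulAut.conj k • K := Subgroup.map_mono (Subgroup.map_subtype_le _)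
      _ = K := conj_smul_eq_of_mem hk
  · rw [card_conj_smul, hω, Subgroup.card_map_of_injective K.subtype_injective, hH₀]

/-- Invariant Hall subgroups are conjugate under the fixed points. -/
theorem invariant_hall_conj {A K : Subgroup X} (hAK : A ≤ Subgroup.normalizer (K : Set X))
    (hcop : (Nat.card A).Coprime (Nat.card K)) (hK : Group.IsSolvable K) {m n : ℕ}
    (hG : Nat.card K = m * n) (hmn : m.Coprime n) {H₁ H₂ : Subgroup X} (h1 : H₁ ≤ K) (h2 : H₂ ≤ K)
    (c1 : Nat.card H₁ = m) (c2 : Nat.card H₂ = m) (a1 : A ≤ Subgroup.normalizer (H₁ : Set X))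
    (a2 : A ≤ Subgroup.normalizer (H₂ : Set X)) :
    ∃ c ∈ K ⊓ Subgroup.centralizer (A : Set X), MulAut.conj c • H₁ = H₂ := by
  classical
  letI : MulAction X (Subgroup X) := MulAction.compHom _ (MulAut.conj : X →* MulAut X)
  haveI := hK
  obtain ⟨k, hk⟩ := exists_conj_eq hG hmn (H := H₁.subgroupOf K) (K := H₂.subgroupOf K)
    (by rw [Nat.card_congr (Subgroup.subgroupOfEquivOfLe h1).toEquiv, c1])
    (by rw [Nat.card_congr (Subgroup.subgroupOfEquivOfLe h2).toEquiv, c2])
  have hk' : MulAut.conj (k : X) • H₁ = H₂ := by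
    have h := congrArg (Subgroup.map K.subtype) hk
    rwa [map_conj_smul, Subgroup.map_subgroupOf_eq_of_le h1, Subgroup.map_subgroupOf_eq_of_le h2] at h
  obtain ⟨c, hc, hce⟩ := exists_centralizer_smul hAK hcop (Or.inr hK) (ω := H₁)
    (fun a ha => conj_smul_eq_self_of_mem_normalizer (a1 ha)) k.2
    (fun a ha => by
      show MulAut.conj a • (MulAut.conj (k : X) • H₁) = MulAut.conj (k : X) • H₁
      rw [hk']
      exact conj_smul_eq_self_of_mem_normalizer (a2 ha))
  exact ⟨c, hc, hce.trans hk'⟩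

theorem exists_invariant_hall_ge_aux (k : ℕ) : ∀ {X : Type u} [Group X] [Finite X] (A K U : Subgroup X),
    K.Normal → Nat.card K = k → (Nat.card A).Coprime (Nat.card K) → Group.IsSolvable K →
    U ≤ K → A ≤ Subgroup.normalizer (U : Set X) → ∀ m n : ℕ, Nat.card K = m * n → m.Coprime n →
    (Nat.card U).Coprime n →
    ∃ H : Subgroup X, H ≤ K ∧ Nat.card H = m ∧ A ≤ Subgroup.normalizer (H : Set X) ∧ U ≤ H := by
  induction k using Nat.strong_induction_on with
  | _ k IH =>
  intro X _ _ A K U hKn hk hcop hsol hUK hUA m n hmn hco hUn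
  haveI := hKn
  haveI := hsol
  have hAK : A ≤ Subgroup.normalizer (K : Set X) := le_top.trans (Subgroup.normalizer_eq_top K).ge
  rcases eq_or_ne K ⊥ with rfl | hne
  · rw [Subgroup.card_bot] at hmn
    exact ⟨⊥, le_rfl, by rw [Subgroup.card_bot, Nat.eq_one_of_mul_eq_one_right hmn.symm],
      hAK, hUK⟩
  haveI : Nontrivial K := (Subgroup.nontrivial_iff_ne_bot K).mpr hne
  obtain ⟨p, hp, N₀, hN₀n, hN₀ne, hN₀p, -⟩ := exists_normal_pgroup_ne_bot (G := K)
  haveI : Fact p.Prime := ⟨hp⟩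
  set N := (Cfsg.pCore p K).map K.subtype with hN
  haveI : N.Normal := CfsgLib.PSolvable.normal_map_of_characteristic K _
  have hNp : IsPGroup p N := (CfsgLib.Fitting.pCore_isPGroup p).map _
  have hNK : N ≤ K := Subgroup.map_subtype_le _
  have hNne : N ≠ ⊥ := fun h => hN₀ne (le_bot_iff.mp ((CfsgLib.Fitting.le_pCore hN₀n hN₀p).trans
    ((Subgroup.map_eq_bot_iff_of_injective _ K.subtype_injective).mp h).le))
  set f := QuotientGroup.mk' N with hf
  have hcardK : Nat.card K = Nat.card N * Nat.card ↥(K.map f) := by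
    have h1 := relIndex_mul_card_inf N K
    rw [inf_eq_left.mpr hNK] at h1
    rw [← h1, mul_comm]
    congr 1
    rw [← Subgroup.relIndex_ker K f, hf, QuotientGroup.ker_mk']
  have hN1 : 1 < Nat.card N := N.one_lt_card_iff_ne_bot.mpr hNne
  have hpos : 0 < Nat.card ↥(K.map f) := Nat.card_pos
  have hlt : Nat.card ↥(K.map f) < k := by
    rw [← hk, hcardK]
    exact lt_mul_of_one_lt_left hpos hN1
  have hUA' : A.map f ≤ Subgroup.normalizer ((U.map f : Subgroup (X ⧸ N)) : Set (X ⧸ N)) :=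
    (Subgroup.map_mono hUA).trans (Subgroup.le_normalizer_map f)
  have hcomapcard : ∀ M : Subgroup (X ⧸ N), M ≤ K.map f →
      M.comap f ≤ K ∧ Nat.card ↥(M.comap f) = Nat.card N * Nat.card M := by
    intro M hM
    constructor
    · intro x hx
      obtain ⟨y, hy, hxy⟩ := hM hx
      have h1 : x⁻¹ * y ∈ K := hNK ((QuotientGroup.eq (s := N)).mp hxy.symm)
      simpa using mul_mem hy (inv_mem h1)
    · have hker : N ≤ M.comap f := fun x hx => by
        rw [Subgroup.mem_comap, hf, QuotientGroup.mk'_apply, (QuotientGroup.eq_one_iff x).mpr hx]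
        exact one_mem _
      have h1 := relIndex_mul_card_inf N (M.comap f)
      rw [inf_eq_left.mpr hker] at h1
      rw [← h1, mul_comm]
      congr 1
      conv_rhs => rw [← Subgroup.map_comap_eq_self_of_surjective (f := f) (QuotientGroup.mk'_surjective N) M]
      rw [← Subgroup.relIndex_ker _ f, hf, QuotientGroup.ker_mk']
  have hinv : ∀ M : Subgroup (X ⧸ N), A.map f ≤ Subgroup.normalizer (M : Set (X ⧸ N)) →
      A ≤ Subgroup.normalizer ((M.comap f : Subgroup X) : Set X) := by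
    intro M hM a ha
    refine Subgroup.mem_normalizer_iff.mpr fun x => ?_
    simp only [Subgroup.mem_comap, map_mul, map_inv]
    exact Subgroup.mem_normalizer_iff.mp (hM (Subgroup.mem_map_of_mem f ha)) (f x)
  have hdA : (Nat.card ↥(A.map f)).Coprime (Nat.card ↥(K.map f)) :=
    (hcop.coprime_dvd_left (A.card_map_dvd f)).coprime_dvd_right (K.card_map_dvd f)
  have hUd : Nat.card ↥(U.map f) ∣ Nat.card U := U.card_map_dvd f
  obtain ⟨i, hi⟩ := IsPGroup.iff_card.mp hNp
  have hNd : Nat.card N ∣ m * n := hmn ▸ Subgroup.card_dvd_of_le hNK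
  have hsol' : Group.IsSolvable ↥(K.map f) := isSolvable_map f hsol
  haveI : (K.map f).Normal := hKn.map f (QuotientGroup.mk'_surjective N)
  by_cases hpn : p ∣ n
  · -- `N` has order prime to `m`
    have hNm : (Nat.card N).Coprime m := hi ▸ ((hco.coprime_dvd_right hpn).symm.pow_left i)
    obtain ⟨n', hn'⟩ := hNm.dvd_of_dvd_mul_left hNd
    have hcK : Nat.card ↥(K.map f) = m * n' := by
      refine Nat.eq_of_mul_eq_mul_left (Nat.card_pos (α := N)) ?_
      rw [← hcardK, hmn, hn']; ring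
    obtain ⟨Hb, hHbK, hHbc, hHbA, hUHb⟩ := IH _ hlt (A.map f) (K.map f) (U.map f) inferInstance rfl
      hdA hsol' (Subgroup.map_mono hUK) hUA' m n' hcK (hco.coprime_dvd_right ⟨_, hn'.trans (mul_comm _ _)⟩)
      ((hUn.coprime_dvd_right ⟨_, hn'.trans (mul_comm _ _)⟩).coprime_dvd_left hUd)
    obtain ⟨hYK, hYc⟩ := hcomapcard Hb hHbK
    set Y := Hb.comap f with hY
    have hUY : U ≤ Y := fun x hx => hUHb (Subgroup.mem_map_of_mem f hx)
    have hAY : A ≤ Subgroup.normalizer (Y : Set X) := hinv Hb hHbA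
    obtain ⟨H, hHY, hHc, hHA⟩ := exists_invariant_hall (A := A) (K := Y) hAY
      (hcop.coprime_dvd_right (Subgroup.card_dvd_of_le hYK)) (isSolvable_of_le hYK hsol)
      (m := m) (n := Nat.card N) (by rw [hYc, hHbc, mul_comm]) hNm.symm
    have hNU : (Nat.card N).Coprime (Nat.card U) :=
      hi ▸ ((hUn.coprime_dvd_right hpn).symm.pow_left i)
    have hnormN : ∀ W : Subgroup X, W ≤ Subgroup.normalizer (N : Set X) := fun W =>
      le_top.trans (Subgroup.normalizer_eq_top N).ge
    have hYe : N ⊔ H = Y := by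
      have hker : N ≤ Y := fun x hx => by
        rw [hY, Subgroup.mem_comap, hf, QuotientGroup.mk'_apply, (QuotientGroup.eq_one_iff x).mpr hx]
        exact one_mem _
      refine Subgroup.eq_of_le_of_card_ge (sup_le hker hHY) ?_
      rw [card_sup_of_coprime (hnormN H) (by rw [hHc]; exact hNm), hYc, hHc, hHbc]
    set U' := (N ⊔ U) ⊓ H with hU'
    have hU'sup : N ⊔ U' = N ⊔ U := by
      refine le_antisymm (sup_le le_sup_left inf_le_left) (sup_le le_sup_left fun u hu => ?_)
      obtain ⟨a, ha, b, hb, rfl⟩ := Subgroup.mem_sup_of_normal_left.mp (hYe.symm ▸ hUY hu)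
      refine mul_mem (Subgroup.mem_sup_left ha) (Subgroup.mem_sup_right (Subgroup.mem_inf.mpr ⟨?_, hb⟩))
      have := mul_mem (inv_mem (Subgroup.mem_sup_left (T := U) ha)) (Subgroup.mem_sup_right (S := N) hu)
      rwa [inv_mul_cancel_left] at this
    have hNU' : (Nat.card N).Coprime (Nat.card U') :=
      (hHc.symm ▸ hNm).coprime_dvd_right (Subgroup.card_dvd_of_le inf_le_right)
    have hsolN : Group.IsSolvable N := isSolvable_of_le hNK hsol
    obtain ⟨x, hx, hxe⟩ := exists_conj_of_coprime (hnormN U') hNU' hNU hU'sup (Or.inl hsolN)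
    classical
    letI : MulAction X (Subgroup X) := MulAction.compHom _ (MulAut.conj : X →* MulAut X)
    have hU'A : A ≤ Subgroup.normalizer (U' : Set X) :=
      le_normalizer_inf_of_le (le_normalizer_sup_of_le (hnormN A) hUA) hHA
    obtain ⟨c, hc, hce⟩ := exists_centralizer_smul (A := A) (K := N) (hnormN A)
      (hcop.coprime_dvd_right (Subgroup.card_dvd_of_le hNK)) (Or.inr hsolN) (ω := U')
      (fun a ha => conj_smul_eq_self_of_mem_normalizer (hU'A ha)) hx
      (fun a ha => by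
        show MulAut.conj a • (MulAut.conj x • U') = MulAut.conj x • U'
        rw [hxe]
        exact conj_smul_eq_self_of_mem_normalizer (hUA ha))
    obtain ⟨hcN, hcC⟩ := Subgroup.mem_inf.mp hc
    change MulAut.conj c • U' = MulAut.conj x • U' at hce
    refine ⟨MulAut.conj c • H, ?_, by rw [card_conj_smul, hHc], fun a ha => ?_, ?_⟩
    · calc MulAut.conj c • H ≤ MulAut.conj c • K := Subgroup.map_mono (hHY.trans hYK)
        _ = K := conj_smul_eq_of_mem (hNK hcN)
    · rw [mem_normalizer_iff_conj_smul, ← mul_smul, ← map_mul, hcC a ha, map_mul, mul_smul,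
        conj_smul_eq_self_of_mem_normalizer (hHA ha)]
    · calc U = MulAut.conj c • U' := by rw [hce, hxe]
        _ ≤ MulAut.conj c • H := Subgroup.map_mono inf_le_right
  · -- `N` is a normal `m`-subgroup
    have hNn : (Nat.card N).Coprime n := hi ▸ ((hp.coprime_iff_not_dvd.mpr hpn).pow_left i)
    obtain ⟨m', hm'⟩ := hNn.dvd_of_dvd_mul_right hNd
    have hcK : Nat.card ↥(K.map f) = m' * n := by
      refine Nat.eq_of_mul_eq_mul_left (Nat.card_pos (α := N)) ?_
      rw [← hcardK, hmn, hm', mul_assoc]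
    obtain ⟨Hb, hHbK, hHbc, hHbA, hUHb⟩ := IH _ hlt (A.map f) (K.map f) (U.map f) inferInstance rfl
      hdA hsol' (Subgroup.map_mono hUK) hUA' m' n hcK (hco.coprime_dvd_left ⟨_, hm'.trans (mul_comm _ _)⟩)
      (hUn.coprime_dvd_left hUd)
    obtain ⟨hYK, hYc⟩ := hcomapcard Hb hHbK
    exact ⟨Hb.comap f, hYK, by rw [hYc, hHbc, hm'], hinv Hb hHbA,
      fun x hx => hUHb (Subgroup.mem_map_of_mem f hx)⟩

/-- An invariant subgroup of suitable order lies in an invariant Hall subgroup. -/
theorem exists_invariant_hall_ge {A K : Subgroup X} (hAK : A ≤ Subgroup.normalizer (K : Set X))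
    (hcop : (Nat.card A).Coprime (Nat.card K)) (hK : Group.IsSolvable K) {m n : ℕ}
    (hG : Nat.card K = m * n) (hmn : m.Coprime n) {U : Subgroup X} (hUK : U ≤ K)
    (hUA : A ≤ Subgroup.normalizer (U : Set X)) (hUn : (Nat.card U).Coprime n) :
    ∃ H : Subgroup X, H ≤ K ∧ Nat.card H = m ∧ A ≤ Subgroup.normalizer (H : Set X) ∧ U ≤ H := by
  set Z := Subgroup.normalizer (K : Set X) with hZ
  have hKZ : K ≤ Z := Subgroup.le_normalizer
  have hAZ : A ≤ Z := hAK
  have hUZ : U ≤ Z := hUK.trans hKZ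
  have hcard : ∀ W : Subgroup X, W ≤ Z → Nat.card ↥(W.subgroupOf Z) = Nat.card W := fun W hW =>
    Nat.card_congr (Subgroup.subgroupOfEquivOfLe hW).toEquiv
  haveI : (K.subgroupOf Z).Normal := Subgroup.normal_in_normalizer
  haveI := hK
  have hsolZ : Group.IsSolvable ↥(K.subgroupOf Z) :=
    Group.isSolvable_of_surjective (f := (Subgroup.subgroupOfEquivOfLe hKZ).symm.toMonoidHom)
      (Subgroup.subgroupOfEquivOfLe hKZ).symm.surjective
  have hUA' : A.subgroupOf Z ≤ Subgroup.normalizer ((U.subgroupOf Z : Subgroup Z) : Set Z) := by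
    intro a ha
    refine Subgroup.mem_normalizer_iff.mpr fun x => ?_
    simp only [Subgroup.mem_subgroupOf, Subgroup.coe_mul, InvMemClass.coe_inv]
    exact Subgroup.mem_normalizer_iff.mp (hUA ha) x
  obtain ⟨H, hHK, hHc, hHA, hUH⟩ := exists_invariant_hall_ge_aux _ (A.subgroupOf Z) (K.subgroupOf Z)
    (U.subgroupOf Z) inferInstance rfl (by rw [hcard A hAZ, hcard K hKZ]; exact hcop) hsolZ
    (fun x hx => hUK hx) hUA' m n (by rw [hcard K hKZ, hG]) hmn (by rw [hcard U hUZ]; exact hUn)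
  refine ⟨H.map Z.subtype, ?_, ?_, ?_, ?_⟩
  · exact (Subgroup.map_mono hHK).trans (Subgroup.map_subgroupOf_eq_of_le hKZ).le
  · rw [Subgroup.card_map_of_injective Z.subtype_injective, hHc]
  · have h1 := (Subgroup.map_mono hHA).trans (Subgroup.le_normalizer_map Z.subtype)
    rwa [Subgroup.map_subgroupOf_eq_of_le hAZ] at h1
  · exact (Subgroup.map_subgroupOf_eq_of_le hUZ).ge.trans (Subgroup.map_mono hUH)

end CfsgLib.Hall
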