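import Mathlib
import Cfsg.Agent.Lib.Hall.System

/-!
Wielandt's criterion with three solvable subgroups.
-/

namespace CfsgLib.Hall

open scoped Pointwise

set_option autoImplicit false
set_option linter.style.haveILetI false

universe u

theorem isSolvable_of_three_aux (n : ℕ) : ∀ (G : Type u) [Group G] [Finite G], Nat.card G = n →
    ∀ A B C : Subgroup G, Group.IsSolvable A → Group.IsSolvable B → Group.IsSolvable C →
    (∀ g : G, ∃ a ∈ A, ∃ b ∈ B, g = a * b) → (∀ g : G, ∃ a ∈ A, ∃ c ∈ C, g = a * c) →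
    B.index.Coprime C.index → Group.IsSolvable G := by
  induction n using Nat.strong_induction_on with
  | _ n IH =>
  intro G _ _ hn A B C hA hB hC hAB hAC hBC
  subst hn
  by_cases hAne : A = ⊥
  · refine solvable_of_surjective (f := B.subtype) fun g => ?_
    obtain ⟨a, ha, b, hb, rfl⟩ := hAB g
    rw [hAne, Subgroup.mem_bot] at ha
    subst ha
    exact ⟨⟨b, hb⟩, (one_mul b).symm⟩
  haveI := hA
  haveI : Nontrivial A := (Subgroup.nontrivial_iff_ne_bot A).mpr hAne
  obtain ⟨ℓ, hℓ, N, hN, hNne, hNp, -⟩ := CfsgLib.Hall.exists_normal_pgroup_ne_bot (G := A)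
  haveI := Fact.mk hℓ
  -- one of `B`, `C` contains a Sylow `ℓ`-subgroup
  obtain ⟨D, hD, hDA, hDℓ⟩ : ∃ D : Subgroup G, Group.IsSolvable D ∧
      (∀ g : G, ∃ a ∈ A, ∃ d ∈ D, g = a * d) ∧ ¬ ℓ ∣ D.index := by
    by_cases hb : ℓ ∣ B.index
    · exact ⟨C, hC, hAC, fun hc => hℓ.ne_one (Nat.eq_one_of_dvd_coprimes hBC hb hc)⟩
    · exact ⟨B, hB, hAB, hb⟩
  set N' := N.map A.subtype with hN'
  have hN'p : IsPGroup ℓ N' := hNp.map _
  obtain ⟨P⟩ := (inferInstance : Nonempty (Sylow ℓ D))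
  have hPi : ¬ ℓ ∣ ((P : Subgroup D).map D.subtype).index := by
    rw [Subgroup.index_map_subtype]
    exact fun h => (hℓ.dvd_mul.mp h).elim P.not_dvd_index hDℓ
  let S : Sylow ℓ G := IsPGroup.toSylow (P.2.map D.subtype) hPi
  obtain ⟨T, hT⟩ := hN'p.exists_le_sylow
  obtain ⟨g, hg⟩ := MulAction.exists_smul_eq G S T
  obtain ⟨a, ha, d, hd, rfl⟩ := hDA g
  have hconjN : ∀ u ∈ A, ∀ x ∈ N', u * x * u⁻¹ ∈ N' := by
    rintro u hu _ ⟨⟨y, hy⟩, hyN, rfl⟩
    exact ⟨⟨u, hu⟩ * ⟨y, hy⟩ * ⟨u, hu⟩⁻¹, hN.conj_mem _ hyN _, rfl⟩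
  have hND : N' ≤ D := by
    intro x hx
    have h1 : a * x * a⁻¹ ∈ (T : Subgroup G) := hT (hconjN a ha x hx)
    rw [← hg, Sylow.coe_subgroup_smul, Subgroup.mem_pointwise_smul_iff_inv_smul_mem] at h1
    have h2 : (a * d)⁻¹ * (a * x * a⁻¹) * (a * d) ∈ D := by
      have : (S : Subgroup G) ≤ D := Subgroup.map_subtype_le _
      have h3 := this h1
      simpa [MulAut.smul_def, mul_assoc] using h3
    have h4 := D.mul_mem (D.mul_mem hd h2) (D.inv_mem hd)
    simpa [mul_assoc] using h4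
  have hconj : ∀ u : G, ∀ x ∈ N', u * x * u⁻¹ ∈ D := by
    intro u x hx
    obtain ⟨a', ha', d', hd', e⟩ := hDA u⁻¹
    have hu : u = d'⁻¹ * a'⁻¹ := by rw [← mul_inv_rev, ← e, inv_inv]
    subst hu
    have := D.mul_mem (D.mul_mem (D.inv_mem hd') (hND (hconjN _ (A.inv_mem ha') x hx))) hd'
    simpa [mul_assoc] using this
  set M := Subgroup.normalClosure (N' : Set G) with hM
  have hMD : M ≤ D := by
    rw [hM, Subgroup.normalClosure, Subgroup.closure_le]
    intro y hy
    obtain ⟨x, hx, hxy⟩ := Group.mem_conjugatesOfSet_iff.mp hy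
    obtain ⟨u, rfl⟩ := isConj_iff.mp hxy
    exact hconj u x hx
  haveI : M.Normal := Subgroup.normalClosure_normal
  haveI := hD
  have hMs : Group.IsSolvable M :=
    solvable_of_solvable_injective (f := Subgroup.inclusion hMD) (Subgroup.inclusion_injective hMD)
  have hMne : M ≠ ⊥ := fun h => by
    have h1 : N' ≤ M := Subgroup.subset_normalClosure
    rw [h, le_bot_iff, Subgroup.map_eq_bot_iff_of_injective _ A.subtype_injective] at h1
    exact hNne h1
  have hlt : Nat.card (G ⧸ M) < Nat.card G := by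
    rw [Subgroup.card_eq_card_quotient_mul_card_subgroup M]
    exact lt_mul_of_one_lt_right Nat.card_pos (M.one_lt_card_iff_ne_bot.mpr hMne)
  set f := QuotientGroup.mk' M
  have hf : Function.Surjective f := QuotientGroup.mk'_surjective M
  have himg : ∀ K : Subgroup G, Group.IsSolvable K → Group.IsSolvable (K.map f) := fun K hK =>
    haveI := hK; solvable_of_surjective (f := f.subgroupMap K) (f.subgroupMap_surjective K)
  have hfac : ∀ K : Subgroup G, (∀ g : G, ∃ a ∈ A, ∃ b ∈ K, g = a * b) →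
      ∀ y : G ⧸ M, ∃ a ∈ A.map f, ∃ b ∈ K.map f, y = a * b := by
    intro K hK y
    obtain ⟨u, rfl⟩ := hf y
    obtain ⟨a, ha, b, hb, rfl⟩ := hK u
    exact ⟨f a, Subgroup.mem_map_of_mem f ha, f b, Subgroup.mem_map_of_mem f hb, map_mul f a b⟩
  haveI := IH _ hlt (G ⧸ M) rfl _ _ _ (himg A hA) (himg B hB) (himg C hC) (hfac B hAB) (hfac C hAC)
    ((hBC.coprime_dvd_left (Subgroup.index_map_dvd B hf)).coprime_dvd_right (Subgroup.index_map_dvd C hf))
  haveI := hMs
  exact solvable_of_ker_le_range M.subtype f (by rw [QuotientGroup.ker_mk', Subgroup.range_subtype])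

/-- A finite group with three solvable subgroups `A, B, C` with `G = A B = A C` and `B`, `C` of
coprime index is solvable. -/
theorem isSolvable_of_three {G : Type u} [Group G] [Finite G] (A B C : Subgroup G)
    (hA : Group.IsSolvable A) (hB : Group.IsSolvable B) (hC : Group.IsSolvable C)
    (hAB : ∀ g : G, ∃ a ∈ A, ∃ b ∈ B, g = a * b) (hAC : ∀ g : G, ∃ a ∈ A, ∃ c ∈ C, g = a * c)
    (hBC : B.index.Coprime C.index) : Group.IsSolvable G :=
  isSolvable_of_three_aux _ G rfl A B C hA hB hC hAB hAC hBC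

end CfsgLib.Hall
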